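import Cfsg.Agent.Lib.M12Cent.Fusion
import Cfsg.Agent.Lib.Involution.Dihedral

/-!
# The outer involutions of `C(z)` are conjugate to `z`

Otherwise the conjugates of `z` in `C(z)` form, with 1, an elementary abelian group `W` of order 8,
and the centralisers of the involutions of `C(z)` lie in `N(W)`, so `G = N(W)`.
-/

set_option autoImplicit false
set_option linter.style.haveILetI false
set_option linter.unusedSectionVars false

namespace Cfsg.Agent.M12Cent

open Subgroup

universe u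
variable {G : Type u} [Group G] [Finite G] {z : G}

namespace Cent

variable (h : Cent z)
include h

/-- The group `{1, z} ∪ A`. -/
def wGroup : Subgroup G where
  carrier := {x | x = 1 ∨ x = z ∨ IsA z x}
  one_mem' := Or.inl rfl
  mul_mem' := by
    rintro x y (rfl | rfl | hx) (rfl | rfl | hy)
    · simp
    · exact Or.inr (Or.inl (one_mul y))
    · exact Or.inr (Or.inr (by rwa [one_mul]))
    · exact Or.inr (Or.inl (mul_one x))
    · exact Or.inl h.sq
    · exact Or.inr (Or.inr (by rw [← hy.1.eq]; exact h.a_z y hy))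
    · exact Or.inr (Or.inr (by rwa [mul_one]))
    · exact Or.inr (Or.inr (h.a_z x hx))
    · rcases (h.a_mul x y hx hy).2 with e | e | e
      exacts [Or.inl e, Or.inr (Or.inl e), Or.inr (Or.inr e)]
  inv_mem' := by
    rintro x (rfl | rfl | hx)
    · exact Or.inl inv_one
    · exact Or.inr (Or.inl (inv_eq_of_mul_eq_one_right h.sq))
    · exact Or.inr (Or.inr (by rwa [inv_eq_of_mul_eq_one_right hx.2.1]))

theorem w_comm {x y : G} (hx : x ∈ h.wGroup) (hy : y ∈ h.wGroup) : Commute x y := by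
  rcases hx with rfl | rfl | hx
  · exact Commute.one_left y
  · rcases hy with rfl | rfl | hy
    · exact Commute.one_right _
    · exact Commute.refl _
    · exact hy.1.symm
  · rcases hy with rfl | rfl | hy
    · exact Commute.one_right _
    · exact hx.1
    · exact (h.a_mul x y hx hy).1

variable [IsSimpleGroup G] (hG : ¬ IsMulCommutative G) {k : G} (hk : IsK z k) (hnk : ¬ IsConj z k)
include hG hk hnk

theorem mem_w {x : G} (hc : Commute x z) (hx : IsConj z x) : x ∈ h.wGroup := by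
  obtain ⟨c, hc'⟩ := isConj_iff.1 hx
  have hx1 : x ≠ 1 := fun e => h.ne (conj_eq_one_iff.1 (hc'.trans e))
  have hx2 : x * x = 1 := by rw [← hc', conj_mul, h.sq, mul_one, mul_inv_cancel]
  by_cases e : x = z
  · exact Or.inr (Or.inl e)
  rcases h.cases x hc hx2 hx1 e with hA | hB | hK
  · exact Or.inr (Or.inr hA)
  · exact absurd hx (h.not_conj_B hB)
  · exact absurd (hx.trans (h.isConj_of_isT hK hk)) hnk

theorem isConj_of_mem_w {x : G} (hx : x ∈ h.wGroup) (hx1 : x ≠ 1) : IsConj z x := by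
  rcases hx with e | e | hA
  · exact absurd e hx1
  · rw [e]
  · exact h.conj_A hG hA

theorem move {g : G} (hg : g * z * g⁻¹ ∈ h.wGroup) :
    g ∈ normalizer (h.wGroup : Set G) := by
  have hzW : z ∈ h.wGroup := Or.inr (Or.inl rfl)
  have hinv : g⁻¹ * z * g ∈ h.wGroup := by
    refine h.mem_w hG hk hnk ?_ (isConj_iff.2 ⟨g⁻¹, by rw [inv_inv]⟩)
    have := h.w_comm hzW hg
    show g⁻¹ * z * g * z = z * (g⁻¹ * z * g)
    calc g⁻¹ * z * g * z = g⁻¹ * (z * (g * z * g⁻¹)) * g := by group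
      _ = z * (g⁻¹ * z * g) := by rw [this.eq]; group
  have hmap : ∀ x ∈ h.wGroup, g * x * g⁻¹ ∈ h.wGroup := by
    intro x hx
    by_cases hx1 : x = 1
    · rw [hx1, mul_one, mul_inv_cancel]; exact one_mem _
    refine h.mem_w hG hk hnk ?_
      ((h.isConj_of_mem_w hG hk hnk hx hx1).trans (isConj_iff.2 ⟨g, rfl⟩))
    have := h.w_comm hx hinv
    show g * x * g⁻¹ * z = z * (g * x * g⁻¹)
    calc g * x * g⁻¹ * z = g * (x * (g⁻¹ * z * g)) * g⁻¹ := by group
      _ = z * (g * x * g⁻¹) := by rw [this.eq]; group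
  refine PGroup.mem_normalizer_of_map_conj_eq (eq_of_le_of_card_ge ?_ ?_)
  · rintro _ ⟨x, hx, rfl⟩
    exact hmap x hx
  · exact (Nat.card_congr ((h.wGroup).equivMapOfInjective _ (MulAut.conj g).injective).toEquiv).le

theorem C_le_normalizer : centralizer ({z} : Set G) ≤ normalizer (h.wGroup : Set G) := fun c hc =>
  h.move hG hk hnk (by rw [mem_centralizer_singleton_iff.1 hc, mul_inv_cancel_right]; exact Or.inr (Or.inl rfl))

theorem triple {b : G} (hb : IsB z b) : ∃ a, IsA z a ∧ Commute a b ∧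
    Nat.card ↥(cz z b ⊓ centralizer ({a} : Set G)) = 8 ∧ (∃ y ∈ cz z b, y * a * y⁻¹ = a * z) ∧
    ∀ x ∈ cz z b, IsConj z x → x = z ∨ x = a ∨ x = a * z := by
  obtain ⟨a, y, ha, hab, hy, hyb, hya, h8, hall, -⟩ := h.b_involutions hb
  refine ⟨a, ha, hab, h8, ⟨y, mem_cz.2 ⟨hy.1, hyb⟩, hya⟩, fun x hx hzx => ?_⟩
  obtain ⟨c, hc⟩ := isConj_iff.1 hzx
  rcases hall x hx (by rw [← hc, conj_mul, h.sq, mul_one, mul_inv_cancel]) with e | e | e | e | e
  · exact absurd (e ▸ hc) fun hc => h.ne (conj_eq_one_iff.1 hc)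
  · exact Or.inl e
  · exact Or.inr (Or.inl e)
  · exact Or.inr (Or.inr e)
  · exact absurd hzx (h.not_conj_B e)

theorem centralizer_B_le {b : G} (hb : IsB z b) : centralizer ({b} : Set G) ≤ centralizer ({z} : Set G) := by
  haveI : Fact (Nat.Prime 2) := ⟨Nat.prime_two⟩
  obtain ⟨a, ha, hab, h8, ⟨y, hy, hya⟩, htri⟩ := h.triple hG hk hnk hb
  set H := centralizer ({b} : Set G) with hH
  have hRH : cz z b ≤ H := inf_le_right
  set R : Subgroup ↥H := (cz z b).subgroupOf H
  have hR : IsPGroup 2 R := IsPGroup.of_card (n := 4) (by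
    rw [Nat.card_congr (subgroupOfEquivOfLe hRH).toEquiv, hb.2.2.2.2]; norm_num)
  obtain ⟨D, hD⟩ := hR.exists_le_sylow
  have hDR : (D : Subgroup ↥H).map H.subtype = cz z b :=
    h.b_maximal hb (D.2.map _) (map_subtype_le _) fun x hx => ⟨⟨x, hRH hx⟩, hD hx, rfl⟩
  -- an element of `C(b)` conjugate to `z` whose centraliser in it has order 8
  obtain ⟨g, hg⟩ := isConj_iff.1 (h.conj_K_B hG hk hnk hb)
  set x := g * z * g⁻¹ with hx
  have hxb : Commute x b := by
    show g * z * g⁻¹ * b = b * (g * z * g⁻¹)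
    rw [← hg, conj_mul, conj_mul, hk.1.symm.eq]
  have hx8 : Nat.card (cz x b) = 8 := by
    rw [hx, ← hg, card_cz_conj]; exact hk.2.2.2.2
  have hxH : x ∈ H := mem_centralizer_singleton_iff.2 hxb
  have hx2 : IsPGroup 2 (zpowers (⟨x, hxH⟩ : ↥H)) := IsPGroup.of_card (n := 1) (by
    rw [Nat.card_zpowers, orderOf_mk, hx, ← MulAut.conj_apply, MulEquiv.orderOf_eq, h.orderOf_z, pow_one])
  obtain ⟨D', hD'⟩ := hx2.exists_le_sylow
  obtain ⟨d, hd⟩ := MulAction.exists_smul_eq ↥H D' D
  have hxR : (d : G) * x * (d : G)⁻¹ ∈ cz z b := by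
    rw [← hDR]
    refine ⟨d * ⟨x, hxH⟩ * d⁻¹, ?_, rfl⟩
    show d * ⟨x, hxH⟩ * d⁻¹ ∈ (D : Subgroup ↥H)
    rw [← hd, Sylow.coe_subgroup_smul, mem_pointwise_smul_iff_inv_smul_mem]
    simpa [MulAut.smul_def, mul_assoc] using hD' (mem_zpowers (⟨x, hxH⟩ : ↥H))
  have hdb : (d : G) * b * (d : G)⁻¹ = b :=
    mul_inv_eq_iff_eq_mul.2 (mem_centralizer_singleton_iff.1 d.2)
  have h8' : Nat.card (cz ((d : G) * x * (d : G)⁻¹) b) = 8 := by
    conv_lhs => arg 1; rw [← hdb]
    rw [card_cz_conj, hx8]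
  have hya' : y * z * y⁻¹ = z := mul_inv_eq_iff_eq_mul.2 (mem_cz.1 hy).1
  have hyb : y * b * y⁻¹ = b := mul_inv_eq_iff_eq_mul.2 (mem_cz.1 hy).2
  have hcaz : Nat.card (cz (a * z) b) = Nat.card (cz a b) := by
    rw [← hya]
    conv_lhs => arg 1; rw [← hyb]
    rw [card_cz_conj]
  have ha8 : Nat.card (cz a b) = 8 := by
    rcases htri _ hxR ((isConj_iff.2 ⟨g, hx.symm⟩ : IsConj z x).trans (isConj_iff.2 ⟨d, rfl⟩)) with e | e | e
    · rw [e, hb.2.2.2.2] at h8'; omega
    · rwa [e] at h8'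
    · rwa [e, hcaz] at h8'
  -- the centralisers in `C(b)` of `z`, `a`, `az` are 2-groups
  have hp : ∀ w, (w = z ∨ w = a ∨ w = a * z) → ∃ n, Nat.card (cz w b) = 2 ^ n := by
    rintro w (rfl | rfl | rfl)
    · exact ⟨4, by rw [hb.2.2.2.2]; norm_num⟩
    · exact ⟨3, by rw [ha8]; norm_num⟩
    · exact ⟨3, by rw [hcaz, ha8]; norm_num⟩
  set zH : ↥H := ⟨z, mem_centralizer_singleton_iff.2 hb.1.symm⟩
  have hiso : Cfsg.IsIsolatedInvolution zH := by
    refine ⟨by rw [orderOf_mk]; exact h.orderOf_z, fun e he => Subtype.ext ?_⟩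
    have hcm : Commute ((e : G) * z * (e : G)⁻¹) z := (congrArg Subtype.val he.eq).symm
    have heb : (e : G) * b * (e : G)⁻¹ = b := mul_inv_eq_iff_eq_mul.2 (mem_centralizer_singleton_iff.1 e.2)
    have hmem : (e : G) * z * (e : G)⁻¹ ∈ cz z b := mem_cz.2 ⟨hcm, by
      show (e : G) * z * (e : G)⁻¹ * b = b * ((e : G) * z * (e : G)⁻¹)
      rw [← heb, conj_mul, conj_mul, hb.1.symm.eq]⟩
    have h16 : Nat.card (cz ((e : G) * z * (e : G)⁻¹) b) = 16 := by
      conv_lhs => arg 1; rw [← heb]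
      rw [card_cz_conj, hb.2.2.2.2]
    show (e : G) * z * (e : G)⁻¹ = z
    rcases htri _ hmem (isConj_iff.2 ⟨e, rfl⟩) with r | r | r
    · exact r
    · rw [r, ha8] at h16; omega
    · rw [r, hcaz, ha8] at h16; omega
  have hO : ∀ (o : ↥H), o ∈ Cfsg.oddCore ↥H → o = 1 := by
    have hodd := PCore.odd_card_oddCore (G := ↥H)
    have hord : ∀ o ∈ Cfsg.oddCore ↥H, ∀ n, o ^ (2 ^ n) = 1 → o = 1 := by
      intro o ho n hn
      have h1 : orderOf o ∣ 2 ^ n := orderOf_dvd_of_pow_eq_one hn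
      have h2 : Odd (orderOf o) := Odd.of_dvd_nat hodd (orderOf_dvd_natCard _ ho)
      exact orderOf_eq_one_iff.1 (Nat.eq_one_of_dvd_coprimes
        ((Nat.coprime_two_left.2 h2).pow_left n) h1 dvd_rfl)
    intro o ho
    have hinv : ∀ w, (w = z ∨ w = a ∨ w = a * z) → Commute w b → w * w = 1 →
        w * (o : G) * w⁻¹ = ((o : G))⁻¹ := by
      intro w hw hwb hw2
      obtain ⟨n, hn⟩ := hp w hw
      set wH : ↥H := ⟨w, mem_centralizer_singleton_iff.2 hwb⟩
      have hf : MonoidHom.FixedPointFree (MulAut.conjNormal wH : MulAut ↥(Cfsg.oddCore ↥H)) := by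
        intro v hv
        have hv' : w * ((v : ↥H) : G) * w⁻¹ = (v : ↥H) :=
          congrArg Subtype.val (congrArg Subtype.val hv)
        have hmem : ((v : ↥H) : G) ∈ cz w b :=
          mem_cz.2 ⟨(mul_inv_eq_iff_eq_mul.1 hv').symm, mem_centralizer_singleton_iff.1 (v : ↥H).2⟩
        refine Subtype.ext (hord _ v.2 n (Subtype.ext ?_))
        have e : (⟨_, hmem⟩ : ↥(cz w b)) ^ (2 ^ n) = 1 := by rw [← hn]; exact pow_card_eq_one'
        simpa using congrArg Subtype.val e
      have hi : Function.Involutive (MulAut.conjNormal wH : MulAut ↥(Cfsg.oddCore ↥H)) := fun v => by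
        refine Subtype.ext (Subtype.ext ?_)
        show w * (w * ((v : ↥H) : G) * w⁻¹) * w⁻¹ = (v : ↥H)
        rw [inv_eq_of_mul_eq_one_right hw2]
        calc w * (w * ((v : ↥H) : G) * w) * w = w * w * (v : ↥H) * (w * w) := by group
          _ = _ := by rw [hw2, one_mul, mul_one]
      have := congrFun (MonoidHom.FixedPointFree.coe_eq_inv_of_involutive hf hi) ⟨o, ho⟩
      exact congrArg Subtype.val (congrArg Subtype.val this)
    have haz := h.a_z a ha
    have e1 := hinv z (Or.inl rfl) hb.1.symm h.sq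
    have e2 := hinv a (Or.inr (Or.inl rfl)) hab ha.2.1
    have e3 := hinv (a * z) (Or.inr (Or.inr rfl)) (hab.mul_left hb.1.symm) haz.2.1
    have e4 : a * z * (o : G) * (a * z)⁻¹ = o := by
      rw [show a * z * (o : G) * (a * z)⁻¹ = a * (z * o * z⁻¹) * a⁻¹ by group, e1,
        show a * (o : G)⁻¹ * a⁻¹ = (a * o * a⁻¹)⁻¹ by group, e2, inv_inv]
    refine hord o ho 1 (Subtype.ext ?_)
    rw [e4] at e3
    show ((o : G)) ^ (2 ^ 1) = 1
    rw [pow_one, pow_two]
    exact mul_eq_one_iff_eq_inv.2 e3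
  intro x hxH'
  have hzc := ZStar.mem_center_of_oddCore_eq_bot (ZStar.inZStar hiso) ((eq_bot_iff_forall _).2 hO)
  exact mem_centralizer_singleton_iff.2 (congrArg Subtype.val (mem_center_iff.1 hzc ⟨x, hxH'⟩))

theorem centralizer_invol_le {j : G} (hjz : Commute j z) (hj2 : j * j = 1) (hj1 : j ≠ 1) :
    centralizer ({j} : Set G) ≤ normalizer (h.wGroup : Set G) := by
  have hCN := h.C_le_normalizer hG hk hnk
  have hw : ∀ w, w ∈ h.wGroup → w ≠ 1 → centralizer ({w} : Set G) ≤ normalizer (h.wGroup : Set G) := by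
    intro w hw hw1
    obtain ⟨c, hc⟩ := isConj_iff.1 (h.isConj_of_mem_w hG hk hnk hw hw1)
    have hcN := h.move hG hk hnk (g := c) (hc ▸ hw)
    intro x hx
    have hm : c⁻¹ * x * c ∈ centralizer ({z} : Set G) := by
      rw [mem_centralizer_singleton_iff]
      calc c⁻¹ * x * c * z = c⁻¹ * (x * (c * z * c⁻¹)) * c := by group
        _ = _ := by rw [hc, mem_centralizer_singleton_iff.1 hx, ← hc]; group
    have := mul_mem (mul_mem hcN (hCN hm)) (inv_mem hcN)
    simpa [mul_assoc] using this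
  by_cases ejz : j = z
  · rw [ejz]; exact hCN
  rcases h.cases j hjz hj2 hj1 ejz with hA | hB | hK
  · exact hw j (Or.inr (Or.inr hA)) hj1
  · exact (h.centralizer_B_le hG hk hnk hB).trans hCN
  · obtain ⟨b, hb⟩ := h.exists_B
    obtain ⟨g, hg⟩ := isConj_iff.1 (h.conj_K_B hG hK (fun e => hnk (e.trans (h.isConj_of_isT hK hk))) hb).symm
    obtain ⟨a, ha, -, -, -, htri⟩ := h.triple hG hk hnk hb
    have hm : g⁻¹ * z * g ∈ cz z b := by
      have h1 : g⁻¹ * z * g ∈ centralizer ({b} : Set G) := by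
        rw [mem_centralizer_singleton_iff]
        calc g⁻¹ * z * g * b = g⁻¹ * (z * (g * b * g⁻¹)) * g := by group
          _ = _ := by rw [hg, hjz.symm.eq, ← hg]; group
      exact ⟨h.centralizer_B_le hG hk hnk hb h1, h1⟩
    have hw' : g⁻¹ * z * g ∈ h.wGroup := by
      rcases htri _ hm (isConj_iff.2 ⟨g⁻¹, by rw [inv_inv]⟩) with e | e | e <;> rw [e]
      exacts [Or.inr (Or.inl rfl), Or.inr (Or.inr ha), Or.inr (Or.inr (h.a_z a ha))]
    have hgN : g⁻¹ ∈ normalizer (h.wGroup : Set G) := h.move hG hk hnk (by rwa [inv_inv])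
    intro x hx
    have hxb : g⁻¹ * x * g ∈ centralizer ({b} : Set G) := by
      rw [mem_centralizer_singleton_iff]
      calc g⁻¹ * x * g * b = g⁻¹ * (x * (g * b * g⁻¹)) * g := by group
        _ = _ := by rw [hg, mem_centralizer_singleton_iff.1 hx, ← hg]; group
    have := mul_mem (mul_mem (inv_mem hgN) (hCN (h.centralizer_B_le hG hk hnk hb hxb))) hgN
    simpa [mul_assoc] using this

theorem false_of_not_fused : False := by
  set N := normalizer (h.wGroup : Set G) with hN
  have hCN := h.C_le_normalizer hG hk hnk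
  have hzN : z ∈ N := hCN (mem_centralizer_singleton_iff.2 rfl)
  obtain ⟨b, hb⟩ := h.exists_B
  -- some conjugate of `z` lies outside `N(W)`
  obtain ⟨v, hv, hvN⟩ : ∃ v, IsConj z v ∧ v ∉ N := by
    by_contra hh
    simp only [not_exists, not_and, not_not] at hh
    have hle : normalClosure ({z} : Set G) ≤ N := by
      show closure (Group.conjugatesOfSet ({z} : Set G)) ≤ _
      rw [closure_le]
      intro v hv
      obtain ⟨w, hw, hwv⟩ := Group.mem_conjugatesOfSet_iff.1 hv
      rw [Set.mem_singleton_iff.1 hw] at hwv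
      exact hh v hwv
    rcases IsSimpleGroup.eq_bot_or_eq_top_of_normal (normalClosure ({z} : Set G)) normalClosure_normal with e | e
    · have := subset_normalClosure (G := G) (rfl : z ∈ ({z} : Set G))
      exact h.ne (mem_bot.1 (e.le (subset_normalClosure (Set.mem_singleton z))))
    rw [e, top_le_iff, hN] at hle
    rcases IsSimpleGroup.eq_bot_or_eq_top_of_normal _ (normalizer_eq_top_iff.1 hle) with e' | e'
    · have : z ∈ h.wGroup := Or.inr (Or.inl rfl)
      rw [e', mem_bot] at this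
      exact h.ne this
    · exact hG ⟨⟨fun x y => h.w_comm (e' ▸ mem_top x) (e' ▸ mem_top y)⟩⟩
  obtain ⟨c, hc⟩ := isConj_iff.1 hv
  have hv2 : v * v = 1 := by rw [← hc, conj_mul, h.sq, mul_one, mul_inv_cancel]
  rcases Nat.even_or_odd (orderOf (b * v)) with he | ho
  · obtain ⟨hj, hjb, hjv⟩ := Involution.half_power_facts hb.2.1 hv2 he
    set j := (b * v) ^ (orderOf (b * v) / 2)
    have hjz : Commute j z :=
      mem_centralizer_singleton_iff.1 (h.centralizer_B_le hG hk hnk hb (mem_centralizer_singleton_iff.2 hjb))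
    have hle := h.centralizer_invol_le hG hk hnk hjz (Involution.sq_of_orderOf_two hj) (fun e => by
      rw [e, orderOf_one] at hj; omega)
    exact hvN (hle (mem_centralizer_singleton_iff.2 hjv.symm))
  · obtain ⟨d, -, hd⟩ := Involution.exists_conj_pair_of_odd hb.2.1 hv2 ho
    exact h.not_conj_B hb (hv.trans (isConj_iff.2 ⟨d, hd⟩).symm)

end Cent

/-- The outer involutions of `C(z)` are conjugate to `z`. -/
theorem Cent.conj_K [IsSimpleGroup G] (h : Cent z) (hG : ¬ IsMulCommutative G) {k : G} (hk : IsK z k) :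
    IsConj z k :=
  by_contra fun hnk => h.false_of_not_fused hG hk hnk

end Cfsg.Agent.M12Cent
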