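import Mathlib.GroupTheory.Sylow
import Mathlib.GroupTheory.Index
import Mathlib.GroupTheory.SpecificGroups.Cyclic

/-!
# The centraliser of a 2-central involution of M₁₂, described intrinsically

In `C = C(z)` (order 192) the involutions other than `z` fall into three classes, told apart by
the orders 32, 16, 8 of their centralisers in `C`.
-/

set_option autoImplicit false

namespace Cfsg.Agent.M12Cent

open Subgroup

variable {G : Type*} [Group G]

/-- `C(z) ∩ C(y)`. -/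
abbrev cz (z y : G) : Subgroup G := centralizer ({z} : Set G) ⊓ centralizer ({y} : Set G)

theorem mem_cz {z y x : G} : x ∈ cz z y ↔ Commute x z ∧ Commute x y :=
  and_congr mem_centralizer_singleton_iff mem_centralizer_singleton_iff

/-- An involution of `C(z)` other than `z` whose centraliser in `C(z)` has order `n`. -/
def IsT (n : ℕ) (z y : G) : Prop :=
  Commute y z ∧ y * y = 1 ∧ y ≠ 1 ∧ y ≠ z ∧ Nat.card (cz z y) = n

/-- The class of six elements. -/
abbrev IsA (z y : G) : Prop := IsT 32 z y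
/-- The class of twelve elements. -/
abbrev IsB (z y : G) : Prop := IsT 16 z y
/-- The class of 24 elements outside the core. -/
abbrev IsK (z y : G) : Prop := IsT 8 z y

theorem IsT.inj {m n : ℕ} {z y : G} (h : IsT m z y) (h' : IsT n z y) : m = n :=
  h.2.2.2.2.symm.trans h'.2.2.2.2

theorem cz_conj (g z y : G) :
    cz (g * z * g⁻¹) (g * y * g⁻¹) = (cz z y).map (MulAut.conj g).toMonoidHom := by
  ext x
  rw [mem_map_equiv, mem_cz, mem_cz, MulAut.conj_symm_apply]
  have key : ∀ w : G, Commute (g⁻¹ * x * g) w ↔ Commute x (g * w * g⁻¹) := fun w => by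
    constructor
    · intro e
      calc x * (g * w * g⁻¹) = g * (g⁻¹ * x * g * w) * g⁻¹ := by group
        _ = g * w * g⁻¹ * x := by rw [e.eq]; group
    · intro e
      calc g⁻¹ * x * g * w = g⁻¹ * (x * (g * w * g⁻¹)) * g := by group
        _ = w * (g⁻¹ * x * g) := by rw [e.eq]; group
  exact and_congr (key z).symm (key y).symm

theorem card_cz_conj (g z y : G) : Nat.card (cz (g * z * g⁻¹) (g * y * g⁻¹)) = Nat.card (cz z y) := by
  rw [cz_conj, Nat.card_congr ((cz z y).equivMapOfInjective _ (MulAut.conj g).injective).symm.toEquiv]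

theorem IsT.conj {n : ℕ} {z y : G} (h : IsT n z y) (g : G) : IsT n (g * z * g⁻¹) (g * y * g⁻¹) := by
  obtain ⟨h1, h2, h3, h4, h5⟩ := h
  refine ⟨?_, by rw [conj_mul, h2, mul_one, mul_inv_cancel], fun e => h3 (conj_eq_one_iff.1 e),
    fun e => h4 (mul_left_cancel (mul_right_cancel e)), by rw [card_cz_conj, h5]⟩
  show g * y * g⁻¹ * (g * z * g⁻¹) = g * z * g⁻¹ * (g * y * g⁻¹)
  rw [conj_mul, conj_mul, h1.eq]

theorem IsT.of_conj {n : ℕ} {z y g : G} (h : IsT n (g * z * g⁻¹) y) : IsT n z (g⁻¹ * y * g) := by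
  have e := h.conj g⁻¹
  rwa [inv_inv, show g⁻¹ * (g * z * g⁻¹) * g = z by group] at e

/-- The properties of `C(z)` in M₁₂ used in the recognition. -/
structure Cent (z : G) : Prop where
  sq : z * z = 1
  ne : z ≠ 1
  card : Nat.card (centralizer ({z} : Set G)) = 192
  cases : ∀ y, Commute y z → y * y = 1 → y ≠ 1 → y ≠ z → IsA z y ∨ IsB z y ∨ IsK z y
  conj : ∀ n y y', IsT n z y → IsT n z y' → ∃ c, Commute c z ∧ c * y * c⁻¹ = y'
  countA : Nat.card {y // IsA z y} = 6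
  countB : Nat.card {y // IsB z y} = 12
  countK : Nat.card {y // IsK z y} = 24
  sylow : ∃ P Q : Subgroup G, P ≤ centralizer ({z} : Set G) ∧ Nat.card P = 64 ∧
    (∀ x ∈ P, (∀ p ∈ P, x * p = p * x) → x = 1 ∨ x = z) ∧
    Q ≤ P ∧ Q.relIndex P = 2 ∧ (∀ y ∈ Q, ¬ IsK z y) ∧ ∃ k ∈ P, IsK z k
  a_mul : ∀ a a', IsA z a → IsA z a' → Commute a a' ∧ (a * a' = 1 ∨ a * a' = z ∨ IsA z (a * a'))
  a_z : ∀ a, IsA z a → IsA z (a * z)
  b_sq : ∀ b, IsB z b → ∀ x ∈ cz z b, x * x = 1 ∨ x * x = z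
  b_sq' : ∀ b, IsB z b → ∃ x ∈ cz z b, x * x = z
  b_struct : ∀ b, IsB z b → ∃ a y, IsA z a ∧ Commute a b ∧ IsB z y ∧ Commute y b ∧
    y * a * y⁻¹ = a * z ∧ Nat.card ↥(cz z b ⊓ centralizer ({a} : Set G)) = 8 ∧
    ∀ x ∈ cz z b, x * x = 1 → x = 1 ∨ x = z ∨ x = a ∨ x = a * z ∨ IsB z x
  k_struct : ∀ k, IsK z k → ∃ a, IsA z a ∧ Commute a k ∧
    ∀ x ∈ cz z k, x = 1 ∨ x = z ∨ x = a ∨ x = a * z ∨ IsK z x
  pairs : Nat.card {p : G × G // (p.1 = z ∨ IsA z p.1 ∨ IsK z p.1) ∧ IsB z p.2 ∧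
    z ∈ zpowers (p.1 * p.2)} = 240
  avoid : ∀ k, IsK z k → Nat.card {k' // IsK z k' ∧ z ∉ zpowers (k * k')} ≤ 11

namespace Cent

variable {z : G} (h : Cent z)
include h

theorem orderOf_z : orderOf z = 2 := orderOf_eq_prime (by rw [pow_two]; exact h.sq) h.ne

theorem exists_A : ∃ a, IsA z a := by
  obtain ⟨⟨a, ha⟩⟩ := (Nat.card_ne_zero.1 (by rw [h.countA]; norm_num : Nat.card {y // IsA z y} ≠ 0)).1
  exact ⟨a, ha⟩

theorem exists_B : ∃ b, IsB z b := by
  obtain ⟨⟨b, hb⟩⟩ := (Nat.card_ne_zero.1 (by rw [h.countB]; norm_num : Nat.card {y // IsB z y} ≠ 0)).1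
  exact ⟨b, hb⟩

theorem isConj_of_isT {n : ℕ} {y y' : G} (hy : IsT n z y) (hy' : IsT n z y') : IsConj y y' := by
  obtain ⟨c, -, hc⟩ := h.conj n y y' hy hy'
  exact isConj_iff.2 ⟨c, hc⟩

/-- The involutions of `C(z) ∩ C(b)`. -/
theorem b_involutions {b : G} (hb : IsB z b) : ∃ a y, IsA z a ∧ Commute a b ∧ IsB z y ∧ Commute y b ∧
    y * a * y⁻¹ = a * z ∧ Nat.card ↥(cz z b ⊓ centralizer ({a} : Set G)) = 8 ∧
    (∀ x ∈ cz z b, x * x = 1 → x = 1 ∨ x = z ∨ x = a ∨ x = a * z ∨ IsB z x) ∧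
    IsB z (z * b) ∧ IsB z (a * b) ∧ IsB z (a * z * b) := by
  obtain ⟨a, y, ha, hab, hy, hyb, hya, h8, hall⟩ := h.b_struct b hb
  have haz := h.a_z a ha
  have hzb : Commute z b := hb.1.symm
  have key : ∀ v, Commute v z → Commute v b → v * v = 1 → (v = z ∨ v = a ∨ v = a * z) →
      IsB z (v * b) := by
    intro v hvz hvb hv hv'
    have hmem : v * b ∈ cz z b := mem_cz.2 ⟨hvz.mul_left hb.1, hvb.mul_left (Commute.refl b)⟩
    have hne : ∀ w, (w = z ∨ w = a ∨ w = a * z) → b ≠ w := by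
      rintro w (rfl | rfl | rfl) e
      · exact hb.2.2.2.1 e
      · have := hb.inj (e ▸ ha); omega
      · have := hb.inj (e ▸ haz); omega
    have hsq : v * b * (v * b) = 1 := by
      rw [hvb.symm.mul_mul_mul_comm, hv, hb.2.1, mul_one]
    have e : b = v * (v * b) := by rw [← mul_assoc, hv, one_mul]
    have haa : a * a = 1 := ha.2.1
    have hazc : Commute a z := ha.1
    have hV : ∀ w, (w = 1 ∨ w = z ∨ w = a ∨ w = a * z) →
        v * w = 1 ∨ v * w = z ∨ v * w = a ∨ v * w = a * z := by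
      have t1 : z * (a * z) = a := by rw [← mul_assoc, ← hazc.eq, mul_assoc, h.sq, mul_one]
      have t2 : a * (a * z) = z := by rw [← mul_assoc, haa, one_mul]
      have t3 : a * z * a = z := by rw [mul_assoc, ← hazc.eq, t2]
      have t4 : a * z * z = a := by rw [mul_assoc, h.sq, mul_one]
      have t5 : a * z * (a * z) = 1 := haz.2.1
      rcases hv' with rfl | rfl | rfl <;> rintro w (rfl | rfl | rfl | rfl) <;>
        simp [h.sq, haa, t1, t2, t3, t4, t5, ← hazc.eq]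
    have hnotV : ¬ (v * b = 1 ∨ v * b = z ∨ v * b = a ∨ v * b = a * z) := by
      intro r
      rcases hV _ r with q | q | q | q <;> rw [← e] at q
      · exact hb.2.2.1 q
      · exact hne _ (Or.inl rfl) q
      · exact hne _ (Or.inr (Or.inl rfl)) q
      · exact hne _ (Or.inr (Or.inr rfl)) q
    rcases hall _ hmem hsq with r | r | r | r | r
    · exact absurd (Or.inl r) hnotV
    · exact absurd (Or.inr (Or.inl r)) hnotV
    · exact absurd (Or.inr (Or.inr (Or.inl r))) hnotV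
    · exact absurd (Or.inr (Or.inr (Or.inr r))) hnotV
    · exact r
  refine ⟨a, y, ha, hab, hy, hyb, hya, h8, hall, ?_, ?_, ?_⟩
  · exact key z (Commute.refl z) hzb h.sq (Or.inl rfl)
  · exact key a ha.1 hab ha.2.1 (Or.inr (Or.inl rfl))
  · exact key (a * z) haz.1 (hab.mul_left hzb) haz.2.1 (Or.inr (Or.inr rfl))

end Cent

end Cfsg.Agent.M12Cent
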