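import Cfsg.Agent.Lib.Involution.Dihedral
import Mathlib.GroupTheory.SpecificGroups.Dihedral
import Mathlib.Data.ZMod.Basic

/-!
# A group of order 8 generated by two involutions with product of order 4
-/

set_option autoImplicit false

namespace Cfsg.Agent.M12Cent

variable {K : Type*} [Group K]

theorem nonempty_equiv_dihedral_four [Finite K] (hK : Nat.card K = 8) {x y : K} (hx : x * x = 1)
    (hy : y * y = 1) (h4 : orderOf (x * y) = 4) (hxn : x ∉ Subgroup.zpowers (x * y)) :
    Nonempty (K ≃* DihedralGroup 4) := by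
  let P : ZMod 4 → K := fun i => (x * y) ^ i.val
  have hadd : ∀ i j, P (i + j) = P i * P j := fun i j => by
    show (x * y) ^ (i + j).val = _
    rw [ZMod.val_add, ← pow_add]
    refine (pow_eq_pow_iff_modEq).2 ?_
    rw [h4]
    exact Nat.mod_modEq _ 4
  have h0 : P 0 = 1 := pow_zero _
  have hneg : ∀ i, P (-i) = (P i)⁻¹ := fun i => eq_inv_of_mul_eq_one_left (by rw [← hadd, neg_add_cancel, h0])
  have hinv : ∀ i, x * P i * x⁻¹ = P (-i) := fun i => by
    rw [hneg]
    show MulAut.conj x ((x * y) ^ i.val) = ((x * y) ^ i.val)⁻¹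
    rw [map_pow, MulAut.conj_apply, Involution.invol_conj_mul hx hy, inv_pow]
  have hswap : ∀ i, P i * x = x * P (-i) := fun i => by
    rw [← hinv i, ← mul_assoc, ← mul_assoc, hx, one_mul, inv_eq_of_mul_eq_one_right hx]
  let f : DihedralGroup 4 → K := fun d => match d with
    | .r i => P i
    | .sr i => x * P i
  let F : DihedralGroup 4 →* K := MonoidHom.mk' f (by
    rintro (i | i) (j | j)
    · exact hadd i j
    · show x * P (j - i) = P i * (x * P j)
      rw [← mul_assoc, hswap, mul_assoc, ← hadd, neg_add_eq_sub]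
    · show x * P (i + j) = x * P i * P j
      rw [hadd, mul_assoc]
    · show P (j - i) = x * P i * (x * P j)
      rw [← mul_assoc, mul_assoc x (P i) x, hswap, ← mul_assoc x x, hx, one_mul, ← hadd, neg_add_eq_sub])
  have hinj : Function.Injective F := by
    have hP : ∀ i, P i = 1 → i = 0 := fun i hi => by
      have h1 := orderOf_dvd_of_pow_eq_one hi
      rw [h4] at h1
      have := ZMod.val_lt i
      exact (ZMod.val_eq_zero i).1 (Nat.eq_zero_of_dvd_of_lt h1 this)
    rw [injective_iff_map_eq_one]
    rintro (i | i) hi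
    · rw [hP i hi, DihedralGroup.r_zero]
    · exfalso
      refine hxn ?_
      have e : x = (P i)⁻¹ := eq_inv_of_mul_eq_one_left hi
      have hm : (P i)⁻¹ ∈ Subgroup.zpowers (x * y) := inv_mem (pow_mem (Subgroup.mem_zpowers _) _)
      rwa [← e] at hm
  exact ⟨(MulEquiv.ofBijective F ((Nat.bijective_iff_injective_and_card _).2
    ⟨hinj, by rw [DihedralGroup.nat_card, hK]⟩)).symm⟩

end Cfsg.Agent.M12Cent
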