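import Cfsg.Agent.Lib.M12Cent.Defs
import Cfsg.Agent.Lib.ZStar.Main
import Cfsg.Agent.Lib.ZStar.Consumers
import Cfsg.Agent.Lib.Transfer.Thompson
import Cfsg.Agent.Lib.PGroup.Basic

/-!
# Fusion of involutions of `C(z)`
-/

set_option autoImplicit false
set_option linter.style.haveILetI false
set_option linter.unusedSectionVars false

namespace Cfsg.Agent.M12Cent

open Subgroup

universe u
variable {G : Type u} [Group G] [Finite G] {z : G}

theorem oddCore_eq_bot_of_simple [IsSimpleGroup G] {z : G} (hz : orderOf z = 2) :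
    Cfsg.oddCore G = ⊥ := by
  refine (IsSimpleGroup.eq_bot_or_eq_top_of_normal _ inferInstance).resolve_right fun e => ?_
  have h1 : Odd (Nat.card G) := by
    have := PCore.odd_card_oddCore (G := G)
    rwa [e, card_top] at this
  have h2 : 2 ∣ Nat.card G := hz ▸ orderOf_dvd_natCard z
  exact Nat.not_even_iff_odd.2 h1 (even_iff_two_dvd.2 h2)

namespace Cent

variable (h : Cent z)
include h

theorem card_sylow_data : ∃ P : Sylow 2 G, Nat.card (P : Subgroup G) = 64 ∧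
    (P : Subgroup G) ≤ centralizer ({z} : Set G) ∧
    ∃ Q : Subgroup G, Q ≤ (P : Subgroup G) ∧ Q.relIndex (P : Subgroup G) = 2 ∧ (∀ y ∈ Q, ¬ IsK z y) ∧
      ∃ k ∈ (P : Subgroup G), IsK z k := by
  haveI : Fact (Nat.Prime 2) := ⟨Nat.prime_two⟩
  obtain ⟨P₀, Q, hPC, hP, hZ, hQ⟩ := h.sylow
  have hP2 : IsPGroup 2 P₀ := IsPGroup.of_card (n := 6) (by rw [hP]; norm_num)
  obtain ⟨S, hS⟩ := hP2.exists_le_sylow
  suffices e : (S : Subgroup G) = P₀ from ⟨S, by rw [e, hP], e ▸ hPC, Q, by rw [e]; exact hQ⟩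
  by_contra hne
  set H : Subgroup ↥(S : Subgroup G) := P₀.subgroupOf (S : Subgroup G)
  have hH : H ≠ ⊤ := fun e => hne (le_antisymm (subgroupOf_eq_top.1 e) hS)
  obtain ⟨n, hnN, hnH⟩ := SetLike.exists_of_lt (PGroup.lt_normalizer S.2 hH)
  have hconj : ∀ x ∈ P₀, (n : G) * x * (n : G)⁻¹ ∈ P₀ := fun x hx =>
    (mem_normalizer_iff.1 hnN ⟨x, hS hx⟩).1 hx
  have hconj' : ∀ x ∈ P₀, (n : G)⁻¹ * x * n ∈ P₀ := fun x hx => by
    have := (mem_subgroupOf (H := P₀)).1 ((mem_normalizer_iff.1 (inv_mem hnN) ⟨x, hS hx⟩).1 hx)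
    rw [inv_inv] at this
    exact this
  have hzP : z ∈ P₀ := by
    by_contra hzP
    have hnt : Nontrivial ↥P₀ := Finite.one_lt_card_iff_nontrivial.1 (by omega)
    haveI := hP2.center_nontrivial
    obtain ⟨⟨c, hc⟩, hc1⟩ := exists_ne (1 : center ↥P₀)
    rcases hZ c c.2 (fun p hp => (congrArg Subtype.val (mem_center_iff.1 hc ⟨p, hp⟩)).symm) with e | e
    · exact hc1 (Subtype.ext (Subtype.ext e))
    · exact hzP (e ▸ c.2)
  have hnz : (n : G) * z * (n : G)⁻¹ = z := by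
    refine (hZ _ (hconj z hzP) fun p hp => ?_).resolve_left fun e => h.ne (conj_eq_one_iff.1 e)
    have hc : z * ((n : G)⁻¹ * p * n) = (n : G)⁻¹ * p * n * z :=
      (mem_centralizer_singleton_iff.1 (hPC (hconj' p hp))).symm
    calc (n : G) * z * (n : G)⁻¹ * p = n * (z * ((n : G)⁻¹ * p * n)) * (n : G)⁻¹ := by group
      _ = _ := by rw [hc]; group
  -- `⟨n⟩ P₀` is then a larger 2-subgroup of `C(z)`
  set K := P₀ ⊔ zpowers (n : G)
  have hKC : K ≤ centralizer ({z} : Set G) :=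
    sup_le hPC (zpowers_le.2 (mem_centralizer_singleton_iff.2 (mul_inv_eq_iff_eq_mul.1 hnz)))
  have hKS : K ≤ (S : Subgroup G) := sup_le hS (zpowers_le.2 n.2)
  have hlt : P₀ < K := lt_of_le_of_ne le_sup_left fun e =>
    hnH ((mem_subgroupOf (h := (n : ↥(S : Subgroup G)))).2 (e ▸ mem_sup_right (mem_zpowers (n : G))))
  obtain ⟨j, hj⟩ := (IsPGroup.iff_card).1 (S.2.to_le hKS)
  have h1 := card_dvd_of_le hKC
  rw [h.card, hj] at h1
  have h6 : j ≤ 6 := by
    by_contra hj7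
    have := (pow_dvd_pow 2 (by omega : 7 ≤ j)).trans h1
    norm_num at this
  have h2 := Nat.pow_le_pow_right (show 0 < 2 by norm_num) h6
  exact absurd (eq_of_le_of_card_ge hlt.le (by rw [hP, hj]; simpa using h2)) hlt.ne

theorem exists_conj_mem_C {x : G} (hx : x * x = 1) :
    ∃ g, g * x * g⁻¹ ∈ centralizer ({z} : Set G) := by
  haveI : Fact (Nat.Prime 2) := ⟨Nat.prime_two⟩
  obtain ⟨P, -, hPC, -⟩ := h.card_sylow_data
  have hx2 : IsPGroup 2 (zpowers x) := by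
    intro ⟨w, hw⟩
    obtain ⟨i, rfl⟩ := mem_zpowers_iff.1 hw
    refine ⟨1, Subtype.ext ?_⟩
    show (x ^ i) ^ (2 ^ 1) = 1
    rw [pow_one, ← zpow_natCast, ← zpow_mul, mul_comm, zpow_mul, zpow_natCast, pow_two, hx, one_zpow]
  obtain ⟨Q, hQ⟩ := hx2.exists_le_sylow
  obtain ⟨g, hg⟩ := MulAction.exists_smul_eq G Q P
  refine ⟨g, hPC ?_⟩
  rw [← hg, Sylow.coe_subgroup_smul, mem_pointwise_smul_iff_inv_smul_mem]
  simpa [MulAut.smul_def, mul_assoc] using hQ (mem_zpowers x)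

/-- Every involution is conjugate to `z` or to an element of one of the three classes. -/
theorem invol_cases {x : G} (hx : x * x = 1) (hx1 : x ≠ 1) :
    IsConj z x ∨ ∃ y, IsConj x y ∧ (IsA z y ∨ IsB z y ∨ IsK z y) := by
  obtain ⟨g, hg⟩ := h.exists_conj_mem_C hx
  by_cases e : g * x * g⁻¹ = z
  · exact Or.inl (isConj_iff.2 ⟨g, e⟩).symm
  · exact Or.inr ⟨_, isConj_iff.2 ⟨g, rfl⟩, h.cases _ (mem_centralizer_singleton_iff.1 hg)
      (by rw [conj_mul, hx, mul_one, mul_inv_cancel]) (fun e' => hx1 (conj_eq_one_iff.1 e')) e⟩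

/-- `C(z) ∩ C(b)` is a maximal 2-subgroup of `C(b)`. -/
theorem b_maximal {b : G} (hb : IsB z b) {D : Subgroup G} (hD : IsPGroup 2 D)
    (hDb : D ≤ centralizer ({b} : Set G)) (hle : cz z b ≤ D) : D = cz z b := by
  haveI : Fact (Nat.Prime 2) := ⟨Nat.prime_two⟩
  by_contra hne
  set H : Subgroup ↥D := (cz z b).subgroupOf D
  have hH : H ≠ ⊤ := fun e => hne (le_antisymm (subgroupOf_eq_top.1 e) hle)
  obtain ⟨n, hnN, hnH⟩ := SetLike.exists_of_lt (PGroup.lt_normalizer hD hH)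
  obtain ⟨x, hx, hxz⟩ := h.b_sq' b hb
  have hnx : (n : G) * x * (n : G)⁻¹ ∈ cz z b := (mem_normalizer_iff.1 hnN ⟨x, hle hx⟩).1 hx
  have hnz : (n : G) * z * (n : G)⁻¹ = z := by
    rcases h.b_sq b hb _ hnx with e | e
    · rw [conj_mul, hxz] at e; exact absurd (conj_eq_one_iff.1 e) h.ne
    · rwa [conj_mul, hxz] at e
  exact hnH ((mem_subgroupOf (h := (n : ↥D))).2
    (mem_cz.2 ⟨mul_inv_eq_iff_eq_mul.1 hnz, mem_centralizer_singleton_iff.1 (hDb n.2)⟩))

theorem not_conj_B {b : G} (hb : IsB z b) : ¬ IsConj z b := by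
  haveI : Fact (Nat.Prime 2) := ⟨Nat.prime_two⟩
  intro hc
  obtain ⟨g, hg⟩ := isConj_iff.1 hc
  obtain ⟨P, hP, hPC, -⟩ := h.card_sylow_data
  have hR : IsPGroup 2 ↥((cz z b).subgroupOf (centralizer ({b} : Set G))) :=
    IsPGroup.of_card (n := 4) (by
      rw [Nat.card_congr (subgroupOfEquivOfLe inf_le_right).toEquiv, hb.2.2.2.2]; norm_num)
  obtain ⟨D, hD⟩ := hR.exists_le_sylow
  set D' : Subgroup G := (D : Subgroup _).map (centralizer ({b} : Set G)).subtype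
  have hcD : Nat.card D' = Nat.card ↥(D : Subgroup ↥(centralizer ({b} : Set G))) :=
    (Nat.card_congr (equivMapOfInjective (D : Subgroup ↥(centralizer ({b} : Set G)))
      (centralizer ({b} : Set G)).subtype (subtype_injective _)).toEquiv).symm
  have e := h.b_maximal hb (D := D') (D.2.map _) (map_subtype_le _) fun x hx =>
    ⟨⟨x, hx.2⟩, hD hx, rfl⟩
  -- but `C(b)` contains a subgroup of order 64
  have hPb : (P : Subgroup G).map (MulAut.conj g).toMonoidHom ≤ centralizer ({b} : Set G) := by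
    rintro _ ⟨p, hp, rfl⟩
    rw [mem_centralizer_singleton_iff, ← hg]
    show g * p * g⁻¹ * (g * z * g⁻¹) = g * z * g⁻¹ * (g * p * g⁻¹)
    rw [conj_mul, conj_mul, mem_centralizer_singleton_iff.1 (hPC hp)]
  have hcP : Nat.card ↥(((P : Subgroup G).map (MulAut.conj g).toMonoidHom).subgroupOf
      (centralizer ({b} : Set G))) = 2 ^ 6 := by
    rw [Nat.card_congr (subgroupOfEquivOfLe hPb).toEquiv,
      Nat.card_congr ((P : Subgroup G).equivMapOfInjective _ (MulAut.conj g).injective).symm.toEquiv, hP]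
    norm_num
  obtain ⟨D₂, hD₂⟩ := (IsPGroup.of_card hcP).exists_le_sylow
  have h1 := card_dvd_of_le hD₂
  have h2 : Nat.card (D₂ : Subgroup ↥(centralizer ({b} : Set G))) =
      Nat.card (D : Subgroup ↥(centralizer ({b} : Set G))) := by
    rw [D₂.card_eq_multiplicity, D.card_eq_multiplicity]
  rw [hcP, h2, ← hcD, e, hb.2.2.2.2] at h1
  norm_num at h1

variable [IsSimpleGroup G]

theorem exists_fused (hG : ¬ IsMulCommutative G) : ∃ y, (IsA z y ∨ IsK z y) ∧ IsConj z y := by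
  by_contra hh
  simp only [not_exists, not_and] at hh
  have hiso : Cfsg.IsIsolatedInvolution z := by
    refine ⟨h.orderOf_z, fun g hc => by_contra fun hne => ?_⟩
    rcases h.cases (g * z * g⁻¹) hc.symm (by rw [conj_mul, h.sq, mul_one, mul_inv_cancel])
      (fun e => h.ne (conj_eq_one_iff.1 e)) hne with hA | hB | hK
    · exact hh _ (Or.inl hA) (isConj_iff.2 ⟨g, rfl⟩)
    · exact h.not_conj_B hB (isConj_iff.2 ⟨g, rfl⟩)
    · exact hh _ (Or.inr hK) (isConj_iff.2 ⟨g, rfl⟩)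
  have hz := ZStar.mem_center_of_oddCore_eq_bot (ZStar.inZStar hiso) (oddCore_eq_bot_of_simple h.orderOf_z)
  rcases IsSimpleGroup.eq_bot_or_eq_top_of_normal (center G) inferInstance with e | e
  · rw [e, mem_bot] at hz; exact h.ne hz
  · exact hG ⟨⟨fun a b => ((mem_center_iff.1 (e ▸ mem_top b : b ∈ center G)) a)⟩⟩

theorem conj_A (hG : ¬ IsMulCommutative G) {a : G} (ha : IsA z a) : IsConj z a := by
  by_contra hna
  obtain ⟨k, hk', hzk⟩ := h.exists_fused hG
  have hk : IsK z k := hk'.resolve_left fun hA => hna (hzk.trans (h.isConj_of_isT hA ha))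
  have hnA : ∀ a', IsA z a' → ¬ IsConj z a' := fun a' ha' hc => hna (hc.trans (h.isConj_of_isT ha' ha))
  obtain ⟨g, hg⟩ := isConj_iff.1 hzk
  have hzK : IsK z (g⁻¹ * z * g) := by
    refine IsT.of_conj (g := g) ?_
    rw [hg]
    exact ⟨hk.1.symm, h.sq, h.ne, hk.2.2.2.1.symm, by rw [cz, inf_comm]; exact hk.2.2.2.2⟩
  obtain ⟨a₁, ha₁, ha₁k, hall⟩ := h.k_struct _ hzK
  obtain ⟨a₂, ha₂, ha₂k, -⟩ := h.k_struct k hk
  have key : ∀ x, Commute x z → Commute x k → x ≠ 1 → ¬ IsConj z x →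
      x = g * a₁ * g⁻¹ ∨ x = g * a₁ * g⁻¹ * k := by
    intro x hxz hxk hx1 hnx
    have hm : g⁻¹ * x * g ∈ cz z (g⁻¹ * z * g) := by
      refine mem_cz.2 ⟨?_, ?_⟩
      · show g⁻¹ * x * g * z = z * (g⁻¹ * x * g)
        calc g⁻¹ * x * g * z = g⁻¹ * (x * (g * z * g⁻¹)) * g := by group
          _ = _ := by rw [hg, hxk.eq, ← hg]; group
      · show g⁻¹ * x * g * (g⁻¹ * z * g) = g⁻¹ * z * g * (g⁻¹ * x * g)
        calc g⁻¹ * x * g * (g⁻¹ * z * g) = g⁻¹ * (x * z) * g := by group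
          _ = _ := by rw [hxz.eq]; group
    have hxe : x = g * (g⁻¹ * x * g) * g⁻¹ := by group
    rcases hall _ hm with e | e | e | e | e
    · exact absurd (by rw [hxe, e]; group) hx1
    · exact absurd (by rw [hxe, e, hg]; exact hzk) hnx
    · exact Or.inl (by rw [hxe, e])
    · exact Or.inr (by rw [hxe, e, ← hg]; group)
    · refine absurd ?_ hnx
      exact (hzk.trans (h.isConj_of_isT hk e)).trans (isConj_iff.2 ⟨g, hxe.symm⟩)
  have haz := h.a_z a₂ ha₂
  have e1 := key a₂ ha₂.1 ha₂k ha₂.2.2.1 (hnA _ ha₂)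
  have e2 := key (a₂ * z) haz.1 (ha₂k.mul_left hk.1.symm) haz.2.2.1 (hnA _ haz)
  have hne : a₂ ≠ a₂ * z := fun e => h.ne (left_eq_mul.1 e)
  have hprod : a₂ * (a₂ * z) = z := by rw [← mul_assoc, ha₂.2.1, one_mul]
  have ha₁' : g * a₁ * g⁻¹ * (g * a₁ * g⁻¹) = 1 := by rw [conj_mul, ha₁.2.1, mul_one, mul_inv_cancel]
  have ha₁c : k * (g * a₁ * g⁻¹) = g * a₁ * g⁻¹ * k := by
    rw [← hg, conj_mul, conj_mul, ha₁.1.eq]
  rcases e1 with p | p <;> rcases e2 with q | q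
  · exact hne (p.trans q.symm)
  · rw [q, p, ← mul_assoc, ha₁', one_mul] at hprod; exact hk.2.2.2.1 hprod
  · rw [q, p, mul_assoc, ha₁c, ← mul_assoc, ha₁', one_mul] at hprod; exact hk.2.2.2.1 hprod
  · exact hne (p.trans q.symm)

/-- If the outer involutions are not fused to `z`, they are fused to the class `B`. -/
theorem conj_K_B (hG : ¬ IsMulCommutative G) {k b : G} (hk : IsK z k) (hnk : ¬ IsConj z k)
    (hb : IsB z b) : IsConj k b := by
  haveI : Fact (Nat.Prime 2) := ⟨Nat.prime_two⟩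
  obtain ⟨P, -, hPC, Q, hQP, hQi, hQK, k₀, hk₀P, hk₀⟩ := h.card_sylow_data
  obtain ⟨g, hgQ⟩ : ∃ g : G, g * k₀ * g⁻¹ ∈ Q := by
    by_contra hh
    simp only [not_exists] at hh
    obtain ⟨M, hM, hidx, -⟩ := Transfer.exists_index_two_of_involution P Q hQP hQi k₀
      (by rw [pow_two]; exact hk₀.2.1) hk₀P (fun e => hQK _ e hk₀) hh
    rcases IsSimpleGroup.eq_bot_or_eq_top_of_normal M hM with e | e
    · rw [e, index_bot] at hidx
      have h2 := card_dvd_of_le (le_top : centralizer ({z} : Set G) ≤ ⊤)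
      rw [card_top, h.card, hidx] at h2
      norm_num at h2
    · rw [e, index_top] at hidx; omega
  have hconj : IsConj k (g * k₀ * g⁻¹) := (h.isConj_of_isT hk hk₀).trans (isConj_iff.2 ⟨g, rfl⟩)
  have hc : Commute (g * k₀ * g⁻¹) z := mem_centralizer_singleton_iff.1 (hPC (hQP hgQ))
  have hne : g * k₀ * g⁻¹ ≠ z := fun e => hnk (e ▸ hconj).symm
  rcases h.cases _ hc (by rw [conj_mul, hk₀.2.1, mul_one, mul_inv_cancel])
    (fun e => hk₀.2.2.1 (conj_eq_one_iff.1 e)) hne with hA | hB | hK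
  · exact absurd ((h.conj_A hG hA).trans hconj.symm) hnk
  · exact hconj.trans (h.isConj_of_isT hB hb)
  · exact absurd hK (hQK _ hgQ)

end Cent

end Cfsg.Agent.M12Cent
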