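import Cfsg.Agent.Lib.Mathieu.SylowTwo
import Cfsg.Agent.Lib.Mathieu.InvCent
import Cfsg.Agent.Lib.Mathieu.ListGroup
import Cfsg.Agent.Lib.M12Cent.ModelData

/-!
# Kernel checks on the 192 packed elements of the centraliser
-/

set_option autoImplicit false
set_option maxRecDepth 20000

namespace Cfsg.Agent.M12Cent

open Cfsg.Agent.Mathieu

/-- The packed identity. -/
def pid : ℕ := packId 24

/-- The central involution. -/
def zc : ℕ := syl12.z

/-- The listed elements. -/
def centE : List ℕ := slpList centGens centSlp

/-- The product. -/
def mm (a b : ℕ) : ℕ := packMulS 24 a b

/-- Commuting. -/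
def cm (a b : ℕ) : Bool := mm a b == mm b a

/-- An involution other than the central one. -/
def isInv (y : ℕ) : Bool := mm y y == pid && !(y == pid) && !(y == zc)

/-- Its centraliser has order `k`. -/
def isTB (k y : ℕ) : Bool := isInv y && (centE.filter fun x => cm x y).length == k

/-- The powers. -/
def pw (w : ℕ) : ℕ → ℕ
  | 0 => pid
  | k + 1 => mm (pw w k) w

/-- One of `acc`, `w * acc`, …, `w ^ (k - 1) * acc` is the central involution. -/
def hits (w : ℕ) : ℕ → ℕ → Bool
  | 0, _ => false
  | k + 1, acc => force acc fun acc => acc == zc || hits w k (mm w acc)

/-- The elements form a group, in canonical packing. -/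
def groupCheck : Bool :=
  centGens.all mem12 && listGroupOK 24 centGens centSlp && decide centE.Nodup &&
    centE.all (fun l => key24 l == l) && centGens.all (fun p => commP 24 p zc) && centE.contains zc &&
    centE.all (fun w => pw w 24 == pid) && key24 zc == zc && key24 pid == pid && centE.contains pid &&
    (centE.length == 192) && !(zc == pid)

/-- The three classes. -/
def classCheck : Bool :=
  (centE.filter (isTB 32) == clsA) && (centE.filter (isTB 16) == clsB) && (centE.filter (isTB 8) == clsK) &&
    centE.all fun y => !isInv y || isTB 32 y || isTB 16 y || isTB 8 y

/-- Conjugacy in a class. -/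
def conjCheck (cls : List ℕ) : Bool :=
  match cls with
  | [] => true
  | r :: l => (r :: l).all fun y => centE.any fun c => mm c r == mm y c

/-- The Sylow subgroup and its subgroup. -/
def sylowCheck : Bool :=
  decide centP.Nodup && decide centQ.Nodup && centP.all centE.contains && centQ.all centP.contains &&
    (centP.length == 64) && (centQ.length == 32) && centP.contains pid && centQ.contains pid &&
    centP.all (fun a => centP.all fun b => centP.contains (mm a b)) &&
    centQ.all (fun a => centQ.all fun b => centQ.contains (mm a b)) &&
    centP.all (fun x => !(centP.all fun p => cm x p) || x == pid || x == zc) &&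
    centQ.all (fun y => !clsK.contains y) && centP.any clsK.contains

/-- The class of six. -/
def aCheck : Bool :=
  clsA.all fun a => clsA.contains (mm a zc) &&
    clsA.all fun a' => cm a a' && (mm a a' == pid || mm a a' == zc || clsA.contains (mm a a'))

/-- The class of twelve. -/
def bCheck : Bool :=
  clsB.all fun b =>
    centE.all (fun x => !cm x b || mm x x == pid || mm x x == zc) &&
    centE.any (fun x => cm x b && mm x x == zc) &&
    clsA.any fun a => cm a b && clsB.any (fun y => cm y b && mm y a == mm (mm a zc) y) &&
      ((centE.filter fun x => cm x b && cm x a).length == 8) &&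
      centE.all fun x => !cm x b || !(mm x x == pid) || x == pid || x == zc || x == a ||
        x == mm a zc || clsB.contains x

/-- The class of 24. -/
def kCheck : Bool :=
  clsK.all fun k => clsA.any fun a => cm a k &&
    centE.all fun x => !cm x k || x == pid || x == zc || x == a || x == mm a zc || clsK.contains x

/-- The pairs counted. -/
def pairList : List (ℕ × ℕ) :=
  (List.product (zc :: clsA ++ clsK) clsB).filter fun p => hits (mm p.1 p.2) 24 (mm p.1 p.2)

/-- Partners of `k` avoiding the central involution. -/
def avoidList (k : ℕ) : List ℕ := clsK.filter fun k' => !hits (mm k k') 24 (mm k k')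

/-- Leaf test of the search. -/
def centLeaf (l : ℕ) : Bool := !commP 24 l zc || centE.contains (key24 l)

theorem group_check : groupCheck = true := by decide +kernel
theorem class_check : classCheck = true := by decide +kernel
theorem conj_check : (conjCheck clsA && conjCheck clsB && conjCheck clsK) = true := by decide +kernel
theorem sylow_check : sylowCheck = true := by decide +kernel
theorem a_check : aCheck = true := by decide +kernel
theorem b_check : bCheck = true := by decide +kernel
theorem k_check : kCheck = true := by decide +kernel
theorem count_check : (clsA.length == 6 && clsB.length == 12 && clsK.length == 24 &&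
    decide ((zc :: clsA ++ clsK).Nodup) && pairList.length == 240 &&
    clsK.all (fun k => (avoidList k).length.ble 11)) = true := by decide +kernel
theorem search_check :
    searchOK 24 zc centLeaf levels12 (packId 24) [] centE = true := by decide +kernel

end Cfsg.Agent.M12Cent
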