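import Cfsg.Agent.Lib.M12Cent.Defs
import Cfsg.Agent.Lib.M12Cent.ModelCheck
import Cfsg.Prelude.Def_SporadicB

/-!
# `C(u)` for a 2-central involution `u` of M₁₂ has the properties `M12Cent.Cent`

* `cent_of_twoCentral`: the properties hold in M₁₂.
* `Cent.of_equiv`: they pass along an isomorphism of centralisers.
-/

set_option autoImplicit false
set_option linter.unusedSectionVars false

namespace Cfsg.Agent.M12Cent

open Subgroup Cfsg.Agent.Mathieu

universe u v

section Transport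

variable {G : Type u} {H : Type v} [Group G] [Group H] {t : G} {u : H}

/-- An embedding of the centraliser onto the centraliser, `t ↦ u`. -/
structure Link (t : G) (u : H) where
  hom : ↥(centralizer ({t} : Set G)) →* H
  inj : Function.Injective hom
  mem : ∀ x, hom x ∈ centralizer ({u} : Set H)
  surj : ∀ y ∈ centralizer ({u} : Set H), ∃ x, hom x = y
  self : ∀ h, hom ⟨t, h⟩ = u

namespace Link

variable (L : Link t u)

theorem tmem (t : G) : t ∈ centralizer ({t} : Set G) := mem_centralizer_singleton_iff.2 rfl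

/-- The value at an element commuting with `t`. -/
noncomputable def val (y : G) : H :=
  haveI := Classical.dec (y ∈ centralizer ({t} : Set G))
  if h : y ∈ centralizer ({t} : Set G) then L.hom ⟨y, h⟩ else 1

theorem val_eq (x : ↥(centralizer ({t} : Set G))) : L.val x = L.hom x := by
  unfold val
  rw [dif_pos x.2]

theorem val_eq' {y : G} (h : Commute y t) : L.val y = L.hom ⟨y, mem_centralizer_singleton_iff.2 h⟩ :=
  L.val_eq ⟨y, mem_centralizer_singleton_iff.2 h⟩

theorem val_mul {x y : G} (hx : Commute x t) (hy : Commute y t) : L.val (x * y) = L.val x * L.val y := by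
  rw [L.val_eq' (hx.mul_left hy), L.val_eq' hx, L.val_eq' hy, ← map_mul]
  rfl

theorem val_t : L.val t = u := by rw [L.val_eq ⟨t, tmem t⟩, L.self]

theorem val_one : L.val 1 = 1 := by
  rw [L.val_eq' (Commute.one_left t)]
  exact map_one L.hom

theorem val_inj {x y : G} (hx : Commute x t) (hy : Commute y t) : L.val x = L.val y ↔ x = y := by
  rw [L.val_eq ⟨x, mem_centralizer_singleton_iff.2 hx⟩, L.val_eq ⟨y, mem_centralizer_singleton_iff.2 hy⟩,
    L.inj.eq_iff, Subtype.mk.injEq]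

theorem val_inv {x : G} (hx : Commute x t) : L.val x⁻¹ = (L.val x)⁻¹ := by
  refine eq_inv_of_mul_eq_one_left ?_
  rw [← L.val_mul hx.inv_left hx, inv_mul_cancel, L.val_one]

theorem val_comm {x : G} (hx : Commute x t) : Commute (L.val x) u := by
  rw [L.val_eq ⟨x, mem_centralizer_singleton_iff.2 hx⟩]
  exact mem_centralizer_singleton_iff.1 (L.mem _)

theorem commute_iff {x y : G} (hx : Commute x t) (hy : Commute y t) :
    Commute (L.val x) (L.val y) ↔ Commute x y := by
  rw [Commute, SemiconjBy, ← L.val_mul hx hy, ← L.val_mul hy hx,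
    L.val_inj (hx.mul_left hy) (hy.mul_left hx)]
  rfl

theorem exists_val {w : H} (hw : Commute w u) : ∃ x, Commute x t ∧ L.val x = w := by
  obtain ⟨x, hx⟩ := L.surj w (mem_centralizer_singleton_iff.2 hw)
  exact ⟨x, mem_centralizer_singleton_iff.1 x.2, by rw [L.val_eq, hx]⟩

/-- A set of elements commuting with `t` and its image. -/
theorem card_eq {P : G → Prop} {Q : H → Prop} (hP : ∀ x, P x → Commute x t)
    (hQ : ∀ w, Q w → Commute w u) (h : ∀ x, Commute x t → (Q (L.val x) ↔ P x)) :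
    Nat.card {x // P x} = Nat.card {w // Q w} := by
  refine Nat.card_congr (Equiv.ofBijective (fun x => ⟨L.val x.1, (h x.1 (hP _ x.2)).2 x.2⟩) ⟨?_, ?_⟩)
  · intro a b e
    exact Subtype.ext ((L.val_inj (hP _ a.2) (hP _ b.2)).1 (congrArg Subtype.val e))
  · rintro ⟨w, hw⟩
    obtain ⟨x, hx, rfl⟩ := L.exists_val (hQ w hw)
    exact ⟨⟨x, (h x hx).1 hw⟩, rfl⟩

theorem mem_cz_val {x y : G} (hx : Commute x t) (hy : Commute y t) :
    L.val x ∈ cz u (L.val y) ↔ x ∈ cz t y := by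
  rw [mem_cz, mem_cz, L.commute_iff hx hy]
  exact ⟨fun h => ⟨hx, h.2⟩, fun h => ⟨L.val_comm hx, h.2⟩⟩

theorem isT_val {n : ℕ} {y : G} (hy : Commute y t) : IsT n u (L.val y) ↔ IsT n t y := by
  have hc : Nat.card (cz t y) = Nat.card (cz u (L.val y)) :=
    L.card_eq (P := (· ∈ cz t y)) (Q := (· ∈ cz u (L.val y))) (fun x h => (mem_cz.1 h).1)
      (fun w h => (mem_cz.1 h).1) fun x hx => L.mem_cz_val hx hy
  have h1 : L.val y * L.val y = 1 ↔ y * y = 1 := by
    rw [← L.val_mul hy hy, ← L.val_one, L.val_inj (hy.mul_left hy) (Commute.one_left t)]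
  have h2 : L.val y = 1 ↔ y = 1 := by rw [← L.val_one, L.val_inj hy (Commute.one_left t)]
  have h3 : L.val y = u ↔ y = t := by
    rw [← L.val_inj hy (Commute.refl t), L.val_t]
  unfold IsT
  rw [h1, Ne, h2, Ne, h3, ← hc]
  exact ⟨fun h => ⟨hy, h.2⟩, fun h => ⟨L.val_comm hy, h.2⟩⟩

end Link

theorem Link.cent (L : Link t u) (h : Cent u) : Cent t := by
  have ct : Commute t t := Commute.refl t
  have key : ∀ {x y : G}, Commute x t → Commute y t → (L.val x = L.val y ↔ x = y) :=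
    fun hx hy => L.val_inj hx hy
  have hsq : t * t = 1 := (key (ct.mul_left ct) (Commute.one_left t)).1 (by
    rw [L.val_mul ct ct, L.val_t, h.sq, L.val_one])
  have hne : t ≠ 1 := fun e => h.ne (L.val_t.symm.trans ((congrArg L.val e).trans L.val_one))
  have cA : ∀ {n : ℕ} {y : G}, IsT n t y → Commute y t := fun h => h.1
  refine ⟨hsq, hne, ?_, ?_, ?_, ?_, ?_, ?_, ?_, ?_, ?_, ?_, ?_, ?_, ?_, ?_, ?_⟩
  · rw [← h.card]
    exact L.card_eq (P := (· ∈ centralizer ({t} : Set G))) (Q := (· ∈ centralizer ({u} : Set H)))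
      (fun x hx => mem_centralizer_singleton_iff.1 hx) (fun w hw => mem_centralizer_singleton_iff.1 hw)
      fun x hx => ⟨fun _ => mem_centralizer_singleton_iff.2 hx,
        fun _ => mem_centralizer_singleton_iff.2 (L.val_comm hx)⟩
  · intro y hy h2 h1 hz
    rcases h.cases (L.val y) (L.val_comm hy) (by rw [← L.val_mul hy hy, h2, L.val_one])
        (fun e => h1 ((key hy (Commute.one_left t)).1 (e.trans L.val_one.symm)))
        (fun e => hz ((key hy ct).1 (e.trans L.val_t.symm))) with r | r | r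
    · exact Or.inl ((L.isT_val hy).1 r)
    · exact Or.inr (Or.inl ((L.isT_val hy).1 r))
    · exact Or.inr (Or.inr ((L.isT_val hy).1 r))
  · intro n y y' hy hy'
    obtain ⟨c, hc, e⟩ := h.conj n _ _ ((L.isT_val hy.1).2 hy) ((L.isT_val hy'.1).2 hy')
    obtain ⟨c, hc', rfl⟩ := L.exists_val hc
    refine ⟨c, hc', (key ((hc'.mul_left hy.1).mul_left hc'.inv_left) hy'.1).1 ?_⟩
    rw [L.val_mul (hc'.mul_left hy.1) hc'.inv_left, L.val_mul hc' hy.1, L.val_inv hc', e]
  · rw [← h.countA]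
    exact L.card_eq (fun x hx => hx.1) (fun w hw => hw.1) fun x hx => L.isT_val hx
  · rw [← h.countB]
    exact L.card_eq (fun x hx => hx.1) (fun w hw => hw.1) fun x hx => L.isT_val hx
  · rw [← h.countK]
    exact L.card_eq (fun x hx => hx.1) (fun w hw => hw.1) fun x hx => L.isT_val hx
  · obtain ⟨P, Q, hPC, hP, hZ, hQP, hidx, hQ, k, hkP, hk⟩ := h.sylow
    let pre : Subgroup H → Subgroup G := fun S => (S.comap L.hom).map (centralizer ({t} : Set G)).subtype
    have hpre : ∀ (S : Subgroup H) (x : G), x ∈ pre S ↔ Commute x t ∧ L.val x ∈ S := by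
      intro S x
      constructor
      · rintro ⟨y, hy, rfl⟩
        refine ⟨mem_centralizer_singleton_iff.1 y.2, ?_⟩
        show L.val y ∈ S
        rw [L.val_eq]; exact hy
      · rintro ⟨hx, hxS⟩
        refine ⟨⟨x, mem_centralizer_singleton_iff.2 hx⟩, ?_, rfl⟩
        show L.hom _ ∈ S
        rwa [← L.val_eq]
    have hcard : ∀ S : Subgroup H, S ≤ P → Nat.card (pre S) = Nat.card S := fun S hS =>
      L.card_eq (P := (· ∈ pre S)) (Q := (· ∈ S)) (fun x hx => ((hpre S x).1 hx).1)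
        (fun w hw => mem_centralizer_singleton_iff.1 (hPC (hS hw)))
        fun x hx => ⟨fun h => (hpre S x).2 ⟨hx, h⟩, fun h => ((hpre S x).1 h).2⟩
    have hle : pre Q ≤ pre P := map_mono (comap_mono hQP)
    refine ⟨pre P, pre Q, map_subtype_le _, (hcard P le_rfl).trans hP, ?_, hle, ?_, ?_, ?_⟩
    · intro x hx hxc
      obtain ⟨hxt, hxP⟩ := (hpre P x).1 hx
      rcases hZ _ hxP (fun p hp => by
          obtain ⟨q, hqt, rfl⟩ := L.exists_val (mem_centralizer_singleton_iff.1 (hPC hp))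
          exact (L.commute_iff hxt hqt).2 (hxc q ((hpre P q).2 ⟨hqt, hp⟩))) with e | e
      · exact Or.inl ((key hxt (Commute.one_left t)).1 (e.trans L.val_one.symm))
      · exact Or.inr ((key hxt ct).1 (e.trans L.val_t.symm))
    · have e1 : Q.relIndex P * Nat.card Q = Nat.card P := by
        rw [← Subgroup.relIndex_bot_left, mul_comm, ← relIndex_bot_left P,
          relIndex_mul_relIndex ⊥ Q P bot_le hQP]
      have e2 : (pre Q).relIndex (pre P) * Nat.card (pre Q) = Nat.card (pre P) := by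
        rw [← Subgroup.relIndex_bot_left, mul_comm, ← relIndex_bot_left (pre P),
          relIndex_mul_relIndex ⊥ (pre Q) (pre P) bot_le hle]
      rw [hidx, hP] at e1
      rw [hcard P le_rfl, hcard Q hQP, hP] at e2
      have e3 : Nat.card Q = 32 := by omega
      rw [e3] at e2
      omega
    · intro y hy hK
      obtain ⟨hyt, hyQ⟩ := (hpre Q y).1 hy
      exact hQ _ hyQ ((L.isT_val hyt).2 hK)
    · obtain ⟨x, hx, rfl⟩ := L.exists_val hk.1
      exact ⟨x, (hpre P x).2 ⟨hx, hkP⟩, (L.isT_val hx).1 hk⟩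
  · intro a a' ha ha'
    obtain ⟨hc, hp⟩ := h.a_mul _ _ ((L.isT_val ha.1).2 ha) ((L.isT_val ha'.1).2 ha')
    refine ⟨(L.commute_iff ha.1 ha'.1).1 hc, ?_⟩
    have hp' := ha.1.mul_left ha'.1
    rw [← L.val_mul ha.1 ha'.1] at hp
    rcases hp with e | e | e
    · exact Or.inl ((key hp' (Commute.one_left t)).1 (e.trans L.val_one.symm))
    · exact Or.inr (Or.inl ((key hp' ct).1 (e.trans L.val_t.symm)))
    · exact Or.inr (Or.inr ((L.isT_val hp').1 e))
  · intro a ha
    have e := h.a_z _ ((L.isT_val ha.1).2 ha)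
    refine (L.isT_val (ha.1.mul_left ct)).1 ?_
    rw [L.val_mul ha.1 ct, L.val_t]
    exact e
  · intro b hb x hx
    have hxt := (mem_cz.1 hx).1
    rcases h.b_sq _ ((L.isT_val hb.1).2 hb) _ ((L.mem_cz_val hxt hb.1).2 hx) with e | e <;>
      rw [← L.val_mul hxt hxt] at e
    · exact Or.inl ((key (hxt.mul_left hxt) (Commute.one_left t)).1 (e.trans L.val_one.symm))
    · exact Or.inr ((key (hxt.mul_left hxt) ct).1 (e.trans L.val_t.symm))
  · intro b hb
    obtain ⟨x, hx, e⟩ := h.b_sq' _ ((L.isT_val hb.1).2 hb)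
    obtain ⟨x, hxt, rfl⟩ := L.exists_val (mem_cz.1 hx).1
    rw [← L.val_mul hxt hxt] at e
    exact ⟨x, (L.mem_cz_val hxt hb.1).1 hx, (key (hxt.mul_left hxt) ct).1 (e.trans L.val_t.symm)⟩
  · intro b hb
    obtain ⟨a, y, ha, hab, hy, hyb, hya, h8, hall⟩ := h.b_struct _ ((L.isT_val hb.1).2 hb)
    obtain ⟨a, hat, rfl⟩ := L.exists_val ha.1
    obtain ⟨y, hyt, rfl⟩ := L.exists_val hy.1
    refine ⟨a, y, (L.isT_val hat).1 ha, (L.commute_iff hat hb.1).1 hab, (L.isT_val hyt).1 hy,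
      (L.commute_iff hyt hb.1).1 hyb, ?_, ?_, ?_⟩
    · refine (key ((hyt.mul_left hat).mul_left hyt.inv_left) (hat.mul_left ct)).1 ?_
      rw [L.val_mul (hyt.mul_left hat) hyt.inv_left, L.val_mul hyt hat, L.val_inv hyt, hya,
        L.val_mul hat ct, L.val_t]
    · rw [← h8]
      refine L.card_eq (P := (· ∈ cz t b ⊓ centralizer ({a} : Set G)))
        (Q := (· ∈ cz u (L.val b) ⊓ centralizer ({L.val a} : Set H)))
        (fun x hx => (mem_cz.1 hx.1).1) (fun w hw => (mem_cz.1 hw.1).1) fun x hx => ?_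
      refine and_congr (L.mem_cz_val hx hb.1) ?_
      show L.val x ∈ centralizer ({L.val a} : Set H) ↔ x ∈ centralizer ({a} : Set G)
      rw [mem_centralizer_singleton_iff, mem_centralizer_singleton_iff]
      exact L.commute_iff hx hat
    · intro x hx hx2
      have hxt := (mem_cz.1 hx).1
      rcases hall _ ((L.mem_cz_val hxt hb.1).2 hx) (by rw [← L.val_mul hxt hxt, hx2, L.val_one]) with
        e | e | e | e | e
      · exact Or.inl ((key hxt (Commute.one_left t)).1 (e.trans L.val_one.symm))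
      · exact Or.inr (Or.inl ((key hxt ct).1 (e.trans L.val_t.symm)))
      · exact Or.inr (Or.inr (Or.inl ((key hxt hat).1 e)))
      · refine Or.inr (Or.inr (Or.inr (Or.inl ((key hxt (hat.mul_left ct)).1 ?_))))
        rw [e, L.val_mul hat ct, L.val_t]
      · exact Or.inr (Or.inr (Or.inr (Or.inr ((L.isT_val hxt).1 e))))
  · intro k hk
    obtain ⟨a, ha, hak, hall⟩ := h.k_struct _ ((L.isT_val hk.1).2 hk)
    obtain ⟨a, hat, rfl⟩ := L.exists_val ha.1
    refine ⟨a, (L.isT_val hat).1 ha, (L.commute_iff hat hk.1).1 hak, fun x hx => ?_⟩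
    have hxt := (mem_cz.1 hx).1
    rcases hall _ ((L.mem_cz_val hxt hk.1).2 hx) with e | e | e | e | e
    · exact Or.inl ((key hxt (Commute.one_left t)).1 (e.trans L.val_one.symm))
    · exact Or.inr (Or.inl ((key hxt ct).1 (e.trans L.val_t.symm)))
    · exact Or.inr (Or.inr (Or.inl ((key hxt hat).1 e)))
    · refine Or.inr (Or.inr (Or.inr (Or.inl ((key hxt (hat.mul_left ct)).1 ?_))))
      rw [e, L.val_mul hat ct, L.val_t]
    · exact Or.inr (Or.inr (Or.inr (Or.inr ((L.isT_val hxt).1 e))))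
  · rw [← h.pairs]
    have hzp : ∀ w, Commute w t → (u ∈ zpowers (L.val w) ↔ t ∈ zpowers w) := by
      intro w hw
      have hw' := mem_centralizer_singleton_iff.2 hw
      have e : ∀ k : ℤ, L.val (w ^ k) = L.val w ^ k := fun k => by
        have e' := L.val_eq ((⟨w, hw'⟩ : ↥(centralizer ({t} : Set G))) ^ k)
        rw [SubgroupClass.coe_zpow] at e'
        rw [e', map_zpow, ← L.val_eq]
      simp only [mem_zpowers_iff]
      refine exists_congr fun k => ?_
      rw [← e]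
      exact ⟨fun h => (key (hw.zpow_left k) ct).1 (h.trans L.val_t.symm),
        fun h => (congrArg L.val h).trans L.val_t⟩
    refine Nat.card_congr (Equiv.ofBijective (fun p => ⟨(L.val p.1.1, L.val p.1.2), ?_⟩) ⟨?_, ?_⟩)
    · obtain ⟨⟨x, y⟩, hx, hy, hp⟩ := p
      have hxt : Commute x t := hx.elim (fun e => e ▸ ct) fun e => e.elim (fun e => e.1) (fun e => e.1)
      refine ⟨?_, (L.isT_val hy.1).2 hy, ?_⟩
      · rcases hx with e | e | e
        · exact Or.inl (by show L.val x = u; rw [show x = t from e, L.val_t])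
        · exact Or.inr (Or.inl ((L.isT_val hxt).2 e))
        · exact Or.inr (Or.inr ((L.isT_val hxt).2 e))
      · show u ∈ zpowers (L.val x * L.val y)
        rw [← L.val_mul hxt hy.1, hzp _ (hxt.mul_left hy.1)]
        exact hp
    · rintro ⟨⟨x, y⟩, hx, hy, hp⟩ ⟨⟨x', y'⟩, hx', hy', hp'⟩ e
      have hxt : Commute x t := hx.elim (fun e => e ▸ ct) fun e => e.elim (fun e => e.1) (fun e => e.1)
      have hxt' : Commute x' t := hx'.elim (fun e => e ▸ ct) fun e => e.elim (fun e => e.1) (fun e => e.1)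
      simp only [Subtype.mk.injEq, Prod.mk.injEq] at e ⊢
      exact ⟨(key hxt hxt').1 e.1, (key hy.1 hy'.1).1 e.2⟩
    · rintro ⟨⟨x, y⟩, hx, hy, hp⟩
      have hxu : Commute x u := hx.elim (fun e => e ▸ Commute.refl u)
        fun e => e.elim (fun e => e.1) (fun e => e.1)
      obtain ⟨x, hxt, rfl⟩ := L.exists_val hxu
      obtain ⟨y, hyt, rfl⟩ := L.exists_val hy.1
      refine ⟨⟨(x, y), ?_, (L.isT_val hyt).1 hy, ?_⟩, rfl⟩
      · rcases hx with e | e | e
        · exact Or.inl ((key hxt ct).1 (e.trans L.val_t.symm))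
        · exact Or.inr (Or.inl ((L.isT_val hxt).1 e))
        · exact Or.inr (Or.inr ((L.isT_val hxt).1 e))
      · show t ∈ zpowers (x * y)
        rw [← hzp _ (hxt.mul_left hyt), L.val_mul hxt hyt]
        exact hp
  · intro k hk
    refine le_of_eq_of_le ?_ (h.avoid _ ((L.isT_val hk.1).2 hk))
    refine L.card_eq (fun x hx => hx.1.1) (fun w hw => hw.1.1) fun x hx => ?_
    have e : ∀ m : ℤ, L.val ((k * x) ^ m) = (L.val k * L.val x) ^ m := fun m => by
      have hw' := mem_centralizer_singleton_iff.2 (hk.1.mul_left hx)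
      have e' := L.val_eq ((⟨k * x, hw'⟩ : ↥(centralizer ({t} : Set G))) ^ m)
      rw [SubgroupClass.coe_zpow] at e'
      rw [e', map_zpow, ← L.val_eq, L.val_mul hk.1 hx]
    refine and_congr (L.isT_val hx) (not_congr ?_)
    simp only [mem_zpowers_iff]
    refine exists_congr fun m => ?_
    rw [← e]
    exact ⟨fun h => (key ((hk.1.mul_left hx).zpow_left m) ct).1 (h.trans L.val_t.symm),
      fun h => (congrArg L.val h).trans L.val_t⟩

/-- The properties pass along an isomorphism of centralisers. -/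
theorem Cent.of_equiv {G : Type u} {H : Type v} [Group G] [Group H] {t : G} {u : H} (h : Cent u)
    (ht : orderOf t = 2)
    (e : ↥(centralizer ({t} : Set G)) ≃* ↥(centralizer ({u} : Set H))) : Cent t := by
  have hw : ((e ⟨t, Link.tmem t⟩ : ↥(centralizer ({u} : Set H))) : H) = u := by
    set w := e ⟨t, Link.tmem t⟩ with hwd
    have hcen : ∀ c : ↥(centralizer ({u} : Set H)), c * w = w * c := fun c => by
      apply e.symm.injective
      rw [map_mul, map_mul, hwd, e.symm_apply_apply]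
      exact Subtype.ext (mem_centralizer_singleton_iff.1 (e.symm c).2)
    have hw2 : orderOf w = 2 := by
      rw [hwd, e.orderOf_eq, ← Subgroup.orderOf_coe]
      exact ht
    haveI : Finite ↥(centralizer ({u} : Set H)) := Nat.finite_of_card_ne_zero (by rw [h.card]; norm_num)
    obtain ⟨P, -, hPC, hP, hZ, -⟩ := h.sylow
    haveI : Fact (Nat.Prime 2) := ⟨Nat.prime_two⟩
    let P' := P.subgroupOf (centralizer ({u} : Set H))
    have hP' : Nat.card P' = 2 ^ 6 := by
      rw [Nat.card_congr (subgroupOfEquivOfLe hPC).toEquiv, hP]; norm_num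
    haveI : (zpowers w).Normal := ⟨fun x hx g => by
      obtain ⟨k, rfl⟩ := mem_zpowers_iff.1 hx
      rw [(Commute.zpow_right (hcen g) k).eq, mul_inv_cancel_right]
      exact zpow_mem (mem_zpowers w) k⟩
    have hz : IsPGroup 2 ↥(zpowers w) := IsPGroup.of_card (n := 1) (by rw [Nat.card_zpowers, hw2]; rfl)
    obtain ⟨m, hm⟩ := IsPGroup.iff_card.1 ((IsPGroup.of_card hP').to_sup_of_normal_right hz)
    have h1 : 2 ^ m ∣ 192 := hm ▸ h.card ▸ card_subgroup_dvd_card _
    have h2 : 2 ^ 6 ≤ 2 ^ m :=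
      hm ▸ hP' ▸ card_le_of_le (le_sup_left : P' ≤ P' ⊔ zpowers w)
    have hm6 : m = 6 := by
      have h3 : 2 ^ m ≤ 192 := Nat.le_of_dvd (by norm_num) h1
      have h4 : 6 ≤ m := (Nat.pow_le_pow_iff_right one_lt_two).1 h2
      rcases Nat.lt_or_ge m 7 with h5 | h5
      · omega
      · have h6 : 2 ^ 7 ≤ 2 ^ m := Nat.pow_le_pow_right two_pos h5
        have h7 : m < 8 := (Nat.pow_lt_pow_iff_right one_lt_two).1 (h3.trans_lt (by norm_num))
        obtain rfl : m = 7 := by omega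
        norm_num at h1
    have hwP : w ∈ P' := by
      rw [eq_of_le_of_card_ge (le_sup_left : P' ≤ P' ⊔ zpowers w) (by rw [hm, hm6, hP'])]
      exact mem_sup_right (mem_zpowers w)
    rcases hZ _ (mem_subgroupOf.1 hwP) (fun p hp => congrArg Subtype.val (hcen ⟨p, hPC hp⟩).symm) with e1 | e1
    · have : w = 1 := Subtype.ext e1
      rw [this, orderOf_one] at hw2
      exact absurd hw2 (by norm_num)
    · exact e1
  exact Link.cent
    { hom := (centralizer ({u} : Set H)).subtype.comp e.toMonoidHom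
      inj := Subtype.val_injective.comp e.injective
      mem := fun x => (e x).2
      surj := fun y hy => ⟨e.symm ⟨y, hy⟩, congrArg Subtype.val (e.apply_symm_apply _)⟩
      self := fun _ => hw } h

end Transport

section Mathieu

/-- The packed forms of the same permutation have equal keys. -/
theorem key24_congr {σ : Equiv.Perm GolayPt} {a b : ℕ} (ha : Rep ptEnc σ a) (hb : Rep ptEnc σ b) :
    key24 a = key24 b := by
  unfold key24
  have h : ∀ i ∈ List.range 24, app a i = app b i := fun i hi => by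
    have e1 := ha (idx ptEnc i)
    have e2 := hb (idx ptEnc i)
    rw [idx_val (List.mem_range.1 hi)] at e1 e2
    exact e1.symm.trans e2
  revert h
  generalize List.range 24 = l
  intro h
  induction l with
  | nil => rfl
  | cons i is ih =>
    rw [List.foldr_cons, List.foldr_cons, h i (by simp), ih fun j hj => h j (List.mem_cons_of_mem _ hj)]

theorem key24_packMul (a b : ℕ) : key24 (packMul 24 a b) = packMul 24 a b := by
  unfold key24
  conv_rhs => unfold packMul
  have h : ∀ i ∈ List.range 24, app (packMul 24 a b) i = app a (app b i) := fun i hi =>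
    Mathieu.app_packMul (List.mem_range.1 hi)
  revert h
  generalize packMul 24 a b = c
  generalize List.range 24 = l
  intro h
  induction l with
  | nil => rfl
  | cons i is ih =>
    rw [List.foldr_cons, List.foldr_cons, h i (by simp), ih fun j hj => h j (List.mem_cons_of_mem _ hj)]

theorem exists_centre : ∃ ζ : Equiv.Perm GolayPt, Rep ptEnc ζ zc ∧
    ζ ∈ Spor.M12 ∧ ζ * ζ = 1 ∧ ζ ≠ 1 ∧
    (∀ g ∈ Spor.M12, g * ζ = ζ * g ↔ ∃ l ∈ centE, Rep ptEnc g l) ∧
    ∃ S : Sylow 2 ↥Spor.M12, ∀ x ∈ (S : Subgroup ↥Spor.M12),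
      (∀ p ∈ (S : Subgroup ↥Spor.M12), x * p = p * x) → x = 1 ∨ x.1 = ζ := by
  have hg : syl12.groupOK 24 mem12 = true := by decide +kernel
  have hc : syl12.centerOK 24 = true := by decide +kernel
  obtain ⟨ζ, hζ, hζS, hζ1, hζc, huniq⟩ := cert_center (e := ptEnc) (by norm_num) mem12_sound hg hc
  change Rep ptEnc ζ zc at hζ
  obtain ⟨hSH, hcard, -, -⟩ := cert_group (e := ptEnc) (by norm_num) mem12_sound hg
  have hk : (syl12.levels.map fun p => p.2.1.length).prod = 2 ^ 6 := by decide +kernel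
  rw [hk] at hcard
  have hgr := group_check
  simp only [groupCheck, Bool.and_eq_true, decide_eq_true_eq, List.all_eq_true, beq_iff_eq,
    List.contains_iff_mem] at hgr
  obtain ⟨⟨⟨⟨⟨⟨⟨⟨⟨⟨⟨hgm, hlist⟩, -⟩, hcan⟩, hcomm⟩, -⟩, -⟩, -⟩, -⟩, -⟩, -⟩, -⟩ := hgr
  have hmg : ∀ σ ∈ genGroup ptEnc centGens, σ ∈ Spor.M12 ∧ σ * ζ = ζ * σ := by
    intro σ hσ
    have hle : genGroup ptEnc centGens ≤ Spor.M12 ⊓ centralizer {ζ} :=
      genGroup_le fun τ l hl hτ => mem_inf.2 ⟨mem12_sound τ l hτ (hgm l hl),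
        mem_centralizer_singleton_iff.2 ((commP_iff hτ hζ).1 (hcomm l hl))⟩
    exact ⟨(mem_inf.1 (hle hσ)).1, mem_centralizer_singleton_iff.1 (mem_inf.1 (hle hσ)).2⟩
  have hup : Upper ptEnc Spor.M12 levels12 := by
    refine upper_full _ [] dodMask _ (by decide +kernel) (by simp) fun σ hσ => ?_
    rw [← squareDodecad_eq]; exact (mem_M12_iff.1 hσ).2
  have hbot : fixList Spor.M12 (levels12.map fun p => idx ptEnc p.1) = ⊥ := by
    rw [eq_bot_iff]
    intro σ hσ
    rw [mem_fixList] at hσ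
    rw [Subgroup.mem_bot]
    refine eq_one_of_fix_five (mem_M12_iff.1 hσ.1).1 (fun i hi => hσ.2 _ ?_) (mem_M12_iff.1 hσ.1).2
    revert i
    decide +kernel
  have hrep := reps_genGroup (e := ptEnc) (gens := gens12) (steps := slp12) (levels := levels12)
    (by decide +kernel) (by decide +kernel) (by decide +kernel)
  rw [M12_cert.1] at hrep
  have hcent : ∀ g ∈ Spor.M12, g * ζ = ζ * g → ∃ l ∈ centE, Rep ptEnc g l := by
    intro g hgM hgz
    refine (mem_genGroup_iff (by norm_num) hlist).1 ?_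
    refine search_sound (H := Spor.M12) (S := genGroup ptEnc centGens)
      (N := fun k => k ∈ Spor.M12 ∧ k * ζ = ζ * k) (fun k hk => hk.1)
      (fun s hs k hk => ⟨mul_mem (hmg s hs).1 hk.1, ?_⟩) hζ (fun k hk => hk.2) (P := centLeaf) ?_
      levels12 [] Spor.M12 (packId 24) 1 centE (by simp) (fun σ hσ _ => hσ) (by decide +kernel) hrep hup
      hbot (rep_packId (by norm_num)) (one_mem _) (by simp) ?_ search_check g ⟨hgM, hgz⟩ (by simp)
    · rw [mul_assoc, hk.2, ← mul_assoc, (hmg s hs).2, mul_assoc]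
    · intro k l hk hkl hleaf
      simp only [centLeaf, Bool.or_eq_true, Bool.not_eq_eq_eq_not, Bool.not_true,
        List.contains_iff_mem] at hleaf
      rcases hleaf with h | h
      · rw [(commP_iff hkl hζ).2 hk.2] at h; exact Bool.noConfusion h
      · obtain ⟨σ, hσ, hσr⟩ := slpList_mem (e := ptEnc) hlist h
        exact (rep_key24 hkl).unique hσr ▸ hσ
    · intro x hx
      obtain ⟨σ, hσ, hσr⟩ := slpList_mem (e := ptEnc) hlist hx
      exact ⟨σ, hσ, hσr, by simp⟩
  have hsq : ζ * ζ = 1 := by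
    have h : compOK 24 (packId 24) zc zc = true := by decide +kernel
    exact (hζ.mul hζ h).unique (rep_packId (by norm_num))
  refine ⟨ζ, hζ, hSH hζS, hsq, hζ1, fun g hgM => ⟨hcent g hgM, ?_⟩, ?_⟩
  · rintro ⟨l, hl, hr⟩
    exact (hmg g ((mem_genGroup_iff (by norm_num) hlist).2 ⟨l, hl, hr⟩)).2
  · have hfac : (Nat.card Spor.M12).factorization 2 = 6 := by
      rw [card_M12, show 95040 = 2 ^ 6 * 1485 by norm_num,
        Nat.factorization_mul (by norm_num) (by norm_num), Nat.Prime.factorization_pow Nat.prime_two]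
      simp [Nat.factorization_eq_zero_of_not_dvd (show ¬ 2 ∣ 1485 by norm_num)]
    haveI : Fact (Nat.Prime 2) := ⟨Nat.prime_two⟩
    refine ⟨Sylow.ofCard ((genGroup ptEnc syl12.gens).subgroupOf Spor.M12)
      (by rw [hfac, ← hcard]; exact Nat.card_congr (subgroupOfEquivOfLe hSH).toEquiv), ?_⟩
    intro x hx hxc
    rcases huniq x.1 hx (fun τ hτ => congrArg Subtype.val (hxc ⟨τ, hSH hτ⟩ hτ)) with e | e
    · exact Or.inl (Subtype.ext e)
    · exact Or.inr e

/-- The centraliser. -/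
abbrev cen (z : ↥Spor.M12) : Subgroup ↥Spor.M12 := centralizer ({z} : Set ↥Spor.M12)

/-- The packed form of an element of the centraliser. -/
structure Pack {z : ↥Spor.M12} (f : ↥(centralizer ({z} : Set ↥Spor.M12)) → ℕ) : Prop where
  inj : Function.Injective f
  mem : ∀ x, f x ∈ centE
  surj : ∀ l ∈ centE, ∃ x, f x = l
  mul : ∀ x y, f (x * y) = mm (f x) (f y)
  one : f 1 = pid
  self : ∀ h, f ⟨z, h⟩ = zc

theorem exists_pack : ∃ z : ↥Spor.M12, z * z = 1 ∧ z ≠ 1 ∧
    (∃ f : ↥(centralizer ({z} : Set ↥Spor.M12)) → ℕ, Pack f) ∧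
    ∃ S : Sylow 2 ↥Spor.M12, ∀ x ∈ (S : Subgroup ↥Spor.M12),
      (∀ p ∈ (S : Subgroup ↥Spor.M12), x * p = p * x) → x = 1 ∨ x = z := by
  obtain ⟨ζ, hζ, hζM, hsq, hζ1, hcent, S, hS⟩ := exists_centre
  have hgr := group_check
  simp only [groupCheck, Bool.and_eq_true, decide_eq_true_eq, List.all_eq_true, beq_iff_eq,
    List.contains_iff_mem] at hgr
  obtain ⟨⟨⟨⟨⟨⟨⟨⟨⟨⟨⟨-, hlist⟩, -⟩, hcan⟩, -⟩, hzE⟩, -⟩, -⟩, -⟩, hidE⟩, -⟩, -⟩ := hgr
  refine ⟨⟨ζ, hζM⟩, Subtype.ext hsq, fun e => hζ1 (congrArg Subtype.val e), ?_,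
    S, fun x hx hxc => (hS x hx hxc).imp_right fun e => Subtype.ext e⟩
  have hex : ∀ x : ↥(centralizer ({(⟨ζ, hζM⟩ : ↥Spor.M12)} : Set ↥Spor.M12)),
      ∃ l ∈ centE, Rep ptEnc x.1.1 l := fun x =>
    (hcent _ x.1.2).1 (congrArg Subtype.val (mem_centralizer_singleton_iff.1 x.2))
  choose f hfE hfR using hex
  have huniq : ∀ (σ : Equiv.Perm GolayPt) (a b : ℕ), a ∈ centE → b ∈ centE → Rep ptEnc σ a → Rep ptEnc σ b →
      a = b := fun σ a b ha hb ra rb => by rw [← hcan a ha, ← hcan b hb, key24_congr ra rb]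
  refine ⟨f, fun x y e => Subtype.ext (Subtype.ext ((hfR x).unique (e ▸ hfR y))), hfE, ?_, ?_, ?_, ?_⟩
  · intro l hl
    obtain ⟨σ, hσ, hσr⟩ := slpList_mem (e := ptEnc) hlist hl
    have hσM : σ ∈ Spor.M12 := by
      have hle : genGroup ptEnc centGens ≤ Spor.M12 := genGroup_le fun τ p hp hτ => mem12_sound τ p hτ (by
        have hgr := group_check
        simp only [groupCheck, Bool.and_eq_true, List.all_eq_true] at hgr
        exact hgr.1.1.1.1.1.1.1.1.1.1.1 p hp)
      exact hle hσ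
    let x : ↥(centralizer ({(⟨ζ, hζM⟩ : ↥Spor.M12)} : Set ↥Spor.M12)) :=
      ⟨⟨σ, hσM⟩, mem_centralizer_singleton_iff.2 (Subtype.ext ((hcent σ hσM).2 ⟨l, hl, hσr⟩))⟩
    exact ⟨x, huniq σ _ _ (hfE x) hl (hfR x) hσr⟩
  · intro x y
    have h := key24_congr (hfR (x * y)) (rep_packMul (hfR x) (hfR y))
    rw [hcan _ (hfE _), key24_packMul] at h
    rw [h, mm, packMulS_eq]
  · exact huniq _ _ _ (hfE _) hidE (hfR _) (rep_packId (by norm_num))
  · exact fun h => huniq ζ _ _ (hfE _) hzE (hfR ⟨_, h⟩) hζ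

theorem Pack.cent {z : ↥Spor.M12} {f : ↥(centralizer ({z} : Set ↥Spor.M12)) → ℕ} (hf : Pack f)
    (hsq : z * z = 1) (hne : z ≠ 1) : Cent z := by
  classical
  have hgr := group_check
  simp only [groupCheck, Bool.and_eq_true, decide_eq_true_eq, List.all_eq_true, beq_iff_eq,
    Bool.not_eq_eq_eq_not, Bool.not_true, beq_eq_false_iff_ne] at hgr
  obtain ⟨⟨⟨⟨⟨⟨⟨⟨⟨⟨⟨-, -⟩, hnd⟩, -⟩, -⟩, -⟩, hexp⟩, -⟩, -⟩, -⟩, hlen⟩, -⟩ := hgr
  have hcl := class_check
  simp only [classCheck, Bool.and_eq_true, beq_iff_eq, List.all_eq_true, Bool.or_eq_true,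
    Bool.not_eq_eq_eq_not, Bool.not_true] at hcl
  obtain ⟨⟨⟨hA, hB⟩, hK⟩, hcases⟩ := hcl
  have hzC : z ∈ (cen z) := mem_centralizer_singleton_iff.2 rfl
  let zC : (cen z) := ⟨z, hzC⟩
  have fz : f zC = zc := hf.self _
  have hid : ∀ x : (cen z), f x = pid ↔ x = 1 := fun x => by rw [← hf.one, hf.inj.eq_iff]
  have hzc : ∀ x : (cen z), f x = zc ↔ (x : ↥Spor.M12) = z := fun x => by
    rw [← fz, hf.inj.eq_iff, Subtype.ext_iff]
  have hcm : ∀ x y : (cen z), cm (f x) (f y) = true ↔ Commute (x : ↥Spor.M12) y := fun x y => by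
    rw [cm, ← hf.mul, ← hf.mul, beq_iff_eq, hf.inj.eq_iff, Subtype.ext_iff]
    rfl
  -- cardinalities
  have hcount : ∀ (P : ↥Spor.M12 → Prop) (L : List ℕ), (∀ x, P x → x ∈ (cen z)) → L.Nodup →
      (∀ l ∈ L, l ∈ centE) → (∀ x : (cen z), P x ↔ f x ∈ L) → Nat.card {x // P x} = L.length := by
    intro P L hP hL hLE hPL
    rw [← List.toFinset_card_of_nodup hL, ← Nat.card_eq_finsetCard]
    refine Nat.card_congr (Equiv.ofBijective
      (fun x => ⟨f ⟨x.1, hP _ x.2⟩, by simpa using (hPL ⟨x.1, hP _ x.2⟩).1 x.2⟩) ⟨?_, ?_⟩)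
    · intro a b e
      exact Subtype.ext (congrArg (fun c : (cen z) => (c : ↥Spor.M12)) (hf.inj (congrArg Subtype.val e)))
    · rintro ⟨l, hl⟩
      have hl' : l ∈ L := by simpa using hl
      obtain ⟨x, rfl⟩ := hf.surj l (hLE l hl')
      exact ⟨⟨x.1, (hPL x).2 hl'⟩, rfl⟩
  have hcz : ∀ y : (cen z), Nat.card (cz z (y : ↥Spor.M12)) = (centE.filter fun x => cm x (f y)).length := by
    intro y
    refine hcount (· ∈ cz z (y : ↥Spor.M12)) _ (fun x hx => hx.1) (hnd.filter _)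
      (fun l hl => (List.mem_filter.1 hl).1) fun x => ?_
    rw [List.mem_filter, mem_cz, hcm]
    exact ⟨fun h => ⟨hf.mem x, h.2⟩, fun h => ⟨mem_centralizer_singleton_iff.1 x.2, h.2⟩⟩
  have hinv : ∀ y : (cen z), isInv (f y) = true ↔
      ((y : ↥Spor.M12) * y = 1 ∧ (y : ↥Spor.M12) ≠ 1 ∧ (y : ↥Spor.M12) ≠ z) := fun y => by
    simp only [isInv, Bool.and_eq_true, beq_iff_eq, Bool.not_eq_eq_eq_not, Bool.not_true,
      beq_eq_false_iff_ne, ne_eq]
    rw [← hf.mul, hid, hid, hzc, and_assoc]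
    exact and_congr ⟨fun h => congrArg Subtype.val h, fun h => Subtype.ext h⟩
      (and_congr (not_congr ⟨fun h => congrArg Subtype.val h, fun h => Subtype.ext h⟩) Iff.rfl)
  have hT : ∀ (n : ℕ) (y : (cen z)), IsT n z (y : ↥Spor.M12) ↔ isTB n (f y) = true := fun n y => by
    rw [isTB, Bool.and_eq_true, hinv, beq_iff_eq, ← hcz]
    exact ⟨fun ⟨_, h2, h3, h4, h5⟩ => ⟨⟨h2, h3, h4⟩, h5⟩,
      fun ⟨⟨h2, h3, h4⟩, h5⟩ => ⟨mem_centralizer_singleton_iff.1 y.2, h2, h3, h4, h5⟩⟩
  have hmA : ∀ y : (cen z), IsA z (y : ↥Spor.M12) ↔ f y ∈ clsA := fun y => by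
    rw [← hA, List.mem_filter]; exact (hT 32 y).trans (and_iff_right (hf.mem y)).symm
  have hmB : ∀ y : (cen z), IsB z (y : ↥Spor.M12) ↔ f y ∈ clsB := fun y => by
    rw [← hB, List.mem_filter]; exact (hT 16 y).trans (and_iff_right (hf.mem y)).symm
  have hmK : ∀ y : (cen z), IsK z (y : ↥Spor.M12) ↔ f y ∈ clsK := fun y => by
    rw [← hK, List.mem_filter]; exact (hT 8 y).trans (and_iff_right (hf.mem y)).symm
  have subA : ∀ l ∈ clsA, l ∈ centE := fun l hl => by rw [← hA] at hl; exact (List.mem_filter.1 hl).1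
  have subB : ∀ l ∈ clsB, l ∈ centE := fun l hl => by rw [← hB] at hl; exact (List.mem_filter.1 hl).1
  have subK : ∀ l ∈ clsK, l ∈ centE := fun l hl => by rw [← hK] at hl; exact (List.mem_filter.1 hl).1
  have ndA : clsA.Nodup := hA ▸ hnd.filter _
  have ndB : clsB.Nodup := hB ▸ hnd.filter _
  have ndK : clsK.Nodup := hK ▸ hnd.filter _
  have inC : ∀ {n : ℕ} {y : ↥Spor.M12}, IsT n z y → y ∈ (cen z) := fun h => mem_centralizer_singleton_iff.2 h.1
  have hcases' : ∀ y, Commute y z → y * y = 1 → y ≠ 1 → y ≠ z → IsA z y ∨ IsB z y ∨ IsK z y := by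
    intro y hy h2 h1 h3
    let y' : (cen z) := ⟨y, mem_centralizer_singleton_iff.2 hy⟩
    rcases hcases (f y') (hf.mem y') with ((e | e) | e) | e
    · rw [(hinv y').2 ⟨h2, h1, h3⟩] at e; exact Bool.noConfusion e
    · exact Or.inl ((hT 32 y').2 e)
    · exact Or.inr (Or.inl ((hT 16 y').2 e))
    · exact Or.inr (Or.inr ((hT 8 y').2 e))
  have hpw : ∀ (w : (cen z)) (k : ℕ), f (w ^ k) = pw (f w) k := fun w k => by
    induction k with
    | zero => rw [pow_zero, hf.one]; rfl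
    | succ k ih => rw [pow_succ, hf.mul, ih]; rfl
  have h24 : ∀ w : (cen z), w ^ 24 = 1 := fun w => by rw [← hid, hpw]; exact hexp _ (hf.mem w)
  have hhits : ∀ (w : (cen z)) (k : ℕ) (acc : (cen z)),
      hits (f w) k (f acc) = true ↔ ∃ j < k, w ^ j * acc = zC := by
    intro w k
    induction k with
    | zero => intro acc; simp [hits]
    | succ k ih =>
      intro acc
      rw [hits, force_eq, Bool.or_eq_true, beq_iff_eq, ← hf.mul, ih, hzc]
      constructor
      · rintro (e | ⟨j, hj, e⟩)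
        · exact ⟨0, by omega, by rw [pow_zero, one_mul]; exact Subtype.ext e⟩
        · exact ⟨j + 1, by omega, by rw [pow_succ, mul_assoc, e]⟩
      · rintro ⟨j, hj, e⟩
        rcases j with _ | j
        · exact Or.inl (by rw [pow_zero, one_mul] at e; exact congrArg Subtype.val e)
        · exact Or.inr ⟨j, by omega, by rw [← mul_assoc, ← pow_succ, e]⟩
  have hzp : ∀ w : (cen z), z ∈ zpowers (w : ↥Spor.M12) ↔ hits (f w) 24 (f w) = true := by
    intro w
    rw [hhits]
    constructor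
    · intro h
      obtain ⟨k, hk⟩ := mem_zpowers_iff.1 h
      have hk' : w ^ k = zC := Subtype.ext (by rw [SubgroupClass.coe_zpow, hk])
      refine ⟨((k - 1) % 24).toNat, by omega, ?_⟩
      rw [← pow_succ, ← hk', ← zpow_natCast, Nat.cast_add, Int.toNat_of_nonneg (by omega), Nat.cast_one]
      have e : k = ((k - 1) % 24 + 1) + (24 : ℕ) * ((k - 1) / 24) := by omega
      conv_rhs => rw [e, zpow_add _ ((k - 1) % 24 + 1), zpow_mul, zpow_natCast, h24, one_zpow, mul_one]
    · rintro ⟨j, -, e⟩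
      exact mem_zpowers_iff.2 ⟨(j + 1 : ℕ), by
        rw [zpow_natCast, pow_succ]; exact congrArg Subtype.val e⟩
  have hmm : ∀ x y : (cen z), f (x * y) = mm (f x) (f y) := hf.mul
  refine ⟨hsq, hne, ?_, hcases', ?_, ?_, ?_, ?_, ?_, ?_, ?_, ?_, ?_, ?_, ?_, ?_, ?_⟩
  · rw [hcount (· ∈ (cen z)) centE (fun x hx => hx) hnd (fun l hl => hl)
      (fun x => ⟨fun _ => hf.mem x, fun _ => x.2⟩), hlen]
  · intro n y y' hy hy'
    let Y : (cen z) := ⟨y, inC hy⟩
    let Y' : (cen z) := ⟨y', inC hy'⟩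
    have hcj := conj_check
    simp only [Bool.and_eq_true] at hcj
    have key : ∀ L, conjCheck L = true → (∀ l ∈ L, l ∈ centE) → f Y ∈ L → f Y' ∈ L →
        ∃ c, Commute c z ∧ c * y * c⁻¹ = y' := by
      intro L hL hLE h1 h2
      cases L with
      | nil => simp at h1
      | cons r l =>
        simp only [conjCheck, List.all_eq_true, List.any_eq_true, beq_iff_eq] at hL
        obtain ⟨a, haE, ha⟩ := hL _ h1
        obtain ⟨b, hbE, hb⟩ := hL _ h2
        obtain ⟨A', rfl⟩ := hf.surj a haE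
        obtain ⟨B', rfl⟩ := hf.surj b hbE
        obtain ⟨R, rfl⟩ := hf.surj r (hLE r (List.mem_cons_self))
        rw [← hmm, ← hmm, hf.inj.eq_iff] at ha hb
        refine ⟨((B' * A'⁻¹ : (cen z)) : ↥Spor.M12), mem_centralizer_singleton_iff.1 (B' * A'⁻¹ : (cen z)).2, ?_⟩
        have e : (B' * A'⁻¹) * Y * (B' * A'⁻¹)⁻¹ = Y' := by
          rw [mul_inv_rev, inv_inv,
            show B' * A'⁻¹ * Y * (A' * B'⁻¹) = B' * (A'⁻¹ * (Y * A')) * B'⁻¹ by group,
            ← ha, inv_mul_cancel_left, hb, mul_inv_cancel_right]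
        exact congrArg Subtype.val e
    rcases hcases' y hy.1 hy.2.1 hy.2.2.1 hy.2.2.2.1 with e | e | e <;>
      have en := hy.inj e <;> subst en
    · exact key clsA hcj.1.1 subA ((hmA Y).1 hy) ((hmA Y').1 hy')
    · exact key clsB hcj.1.2 subB ((hmB Y).1 hy) ((hmB Y').1 hy')
    · exact key clsK hcj.2 subK ((hmK Y).1 hy) ((hmK Y').1 hy')
  · rw [hcount (IsA z) clsA (fun _ => inC) ndA subA hmA]
    have := count_check
    simp only [Bool.and_eq_true, beq_iff_eq] at this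
    exact this.1.1.1.1.1
  · rw [hcount (IsB z) clsB (fun _ => inC) ndB subB hmB]
    have := count_check
    simp only [Bool.and_eq_true, beq_iff_eq] at this
    exact this.1.1.1.1.2
  · rw [hcount (IsK z) clsK (fun _ => inC) ndK subK hmK]
    have := count_check
    simp only [Bool.and_eq_true, beq_iff_eq] at this
    exact this.1.1.1.2
  · have hs := sylow_check
    simp only [sylowCheck, Bool.and_eq_true, decide_eq_true_eq, beq_iff_eq, List.all_eq_true,
      List.any_eq_true, List.contains_iff_mem, Bool.or_eq_true, Bool.not_eq_eq_eq_not, Bool.not_true] at hs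
    obtain ⟨⟨⟨⟨⟨⟨⟨⟨⟨⟨⟨⟨hPnd, hQnd⟩, hPE⟩, hQP⟩, hPl⟩, hQl⟩, hP1⟩, hQ1⟩, hPm⟩, hQm⟩, hZ⟩, hQK⟩,
      k, hkP, hkK⟩ := hs
    have mk : ∀ L : List ℕ, (pid ∈ L) → (∀ a ∈ L, ∀ b ∈ L, mm a b ∈ L) →
        ∃ S : Subgroup ↥Spor.M12, ∀ x, x ∈ S ↔ ∃ h : x ∈ (cen z), f ⟨x, h⟩ ∈ L := by
      intro L h1 hm
      let S : Submonoid (cen z) :=
        { carrier := {x | f x ∈ L}
          one_mem' := by show f 1 ∈ L; rw [hf.one]; exact h1
          mul_mem' := fun {a b} ha hb => by show f (a * b) ∈ L; rw [hmm]; exact hm _ ha _ hb }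
      let S' : Subgroup (cen z) :=
        { S with
          inv_mem' := fun {a} ha => by
            have e : a⁻¹ = a ^ 23 := inv_eq_of_mul_eq_one_right (by rw [← pow_succ', h24])
            show a⁻¹ ∈ S
            rw [e]; exact S.pow_mem ha 23 }
      refine ⟨S'.map (cen z).subtype, fun x => ⟨?_, ?_⟩⟩
      · rintro ⟨y, hy, rfl⟩; exact ⟨y.2, hy⟩
      · rintro ⟨h, hx⟩; exact ⟨⟨x, h⟩, hx, rfl⟩
    obtain ⟨P, hP⟩ := mk centP hP1 hPm
    obtain ⟨Q, hQ⟩ := mk centQ hQ1 hQm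
    have cP : Nat.card P = 64 := by
      rw [hcount (· ∈ P) centP (fun x hx => ((hP x).1 hx).1) hPnd hPE
        (fun x => ⟨fun h => ((hP _).1 h).2, fun h => (hP _).2 ⟨x.2, h⟩⟩), hPl]
    have cQ : Nat.card Q = 32 := by
      rw [hcount (· ∈ Q) centQ (fun x hx => ((hQ x).1 hx).1) hQnd (fun l hl => hPE _ (hQP l hl))
        (fun x => ⟨fun h => ((hQ _).1 h).2, fun h => (hQ _).2 ⟨x.2, h⟩⟩), hQl]
    have hle : Q ≤ P := fun x hx => (hP x).2 ⟨((hQ x).1 hx).1, hQP _ ((hQ x).1 hx).2⟩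
    obtain ⟨K', hK'⟩ := hf.surj k (hPE k hkP)
    refine ⟨P, Q, fun x hx => ((hP x).1 hx).1, cP, ?_, hle, ?_, ?_, (K' : ↥Spor.M12),
      (hP _).2 ⟨K'.2, hK' ▸ hkP⟩, (hmK K').2 (hK' ▸ hkK)⟩
    · intro x hx hxc
      obtain ⟨hxC, hxP⟩ := (hP x).1 hx
      rcases hZ _ hxP with (e | e) | e
      · exfalso
        rw [Bool.eq_false_iff] at e
        refine e (List.all_eq_true.2 fun p hp => ?_)
        obtain ⟨p', rfl⟩ := hf.surj p (hPE p hp)
        exact (hcm ⟨x, hxC⟩ p').2 (hxc _ ((hP _).2 ⟨p'.2, hp⟩))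
      · exact Or.inl (congrArg Subtype.val ((hid ⟨x, hxC⟩).1 e))
      · exact Or.inr ((hzc ⟨x, hxC⟩).1 e)
    · have e : Q.relIndex P * Nat.card Q = Nat.card P := by
        rw [← Subgroup.relIndex_bot_left, mul_comm, ← relIndex_bot_left P,
          relIndex_mul_relIndex ⊥ Q P bot_le hle]
      rw [cQ, cP] at e
      omega
    · intro y hy hyK
      obtain ⟨hyC, hyQ⟩ := (hQ y).1 hy
      have e1 := hQK _ hyQ
      have e2 : f ⟨y, hyC⟩ ∈ clsK := (hmK ⟨y, hyC⟩).1 hyK
      exact absurd e2 (by simpa using e1)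
  · intro a a' ha ha'
    let A' : (cen z) := ⟨a, inC ha⟩
    let A'' : (cen z) := ⟨a', inC ha'⟩
    have hc := a_check
    simp only [aCheck, List.all_eq_true, Bool.and_eq_true, Bool.or_eq_true, beq_iff_eq,
      List.contains_iff_mem] at hc
    obtain ⟨h1, h2⟩ := (hc _ ((hmA A').1 ha)).2 _ ((hmA A'').1 ha')
    refine ⟨(hcm A' A'').1 h1, ?_⟩
    rw [← hmm, hid, hzc, ← hmA] at h2
    rcases h2 with (e | e) | e
    · exact Or.inl (congrArg Subtype.val e)
    · exact Or.inr (Or.inl e)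
    · exact Or.inr (Or.inr e)
  · intro a ha
    have hc := a_check
    simp only [aCheck, List.all_eq_true, Bool.and_eq_true, List.contains_iff_mem] at hc
    have h := (hc _ ((hmA ⟨a, inC ha⟩).1 ha)).1
    rw [← fz, ← hmm, ← hmA] at h
    exact h
  · intro b hb x hx
    have hc := b_check
    simp only [bCheck, List.all_eq_true, Bool.and_eq_true, Bool.or_eq_true, beq_iff_eq,
      Bool.not_eq_eq_eq_not, Bool.not_true] at hc
    let X : (cen z) := ⟨x, hx.1⟩
    let B' : (cen z) := ⟨b, inC hb⟩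
    rcases (hc _ ((hmB B').1 hb)).1.1 (f X) (hf.mem X) with (e | e) | e
    · rw [(hcm X B').2 (mem_cz.1 hx).2] at e; exact Bool.noConfusion e
    · rw [← hmm, hid] at e; exact Or.inl (congrArg Subtype.val e)
    · rw [← hmm, hzc] at e; exact Or.inr e
  · intro b hb
    have hc := b_check
    simp only [bCheck, List.all_eq_true, Bool.and_eq_true, List.any_eq_true, beq_iff_eq] at hc
    let B' : (cen z) := ⟨b, inC hb⟩
    obtain ⟨x, hxE, hxb, hx2⟩ := (hc _ ((hmB B').1 hb)).1.2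
    obtain ⟨X, rfl⟩ := hf.surj x hxE
    rw [← hmm, hzc] at hx2
    exact ⟨X, mem_cz.2 ⟨mem_centralizer_singleton_iff.1 X.2, (hcm X B').1 hxb⟩, hx2⟩
  · intro b hb
    have hc := b_check
    simp only [bCheck, List.all_eq_true, Bool.and_eq_true, List.any_eq_true, beq_iff_eq,
      Bool.or_eq_true, Bool.not_eq_eq_eq_not, Bool.not_true, List.contains_iff_mem] at hc
    let B' : (cen z) := ⟨b, inC hb⟩
    obtain ⟨a, haA, ⟨⟨hab, y, hyB, hyb, hya⟩, h8⟩, hall⟩ := (hc _ ((hmB B').1 hb)).2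
    obtain ⟨A', rfl⟩ := hf.surj a (subA a haA)
    obtain ⟨Y', rfl⟩ := hf.surj y (subB y hyB)
    refine ⟨A', Y', (hmA A').2 haA, (hcm A' B').1 hab, (hmB Y').2 hyB, (hcm Y' B').1 hyb, ?_, ?_, ?_⟩
    · rw [← fz, ← hmm, ← hmm, ← hmm, hf.inj.eq_iff] at hya
      have e : Y' * A' * Y'⁻¹ = A' * zC := by rw [hya, mul_inv_cancel_right]
      exact congrArg Subtype.val e
    · rw [← h8]
      refine hcount (· ∈ cz z b ⊓ centralizer ({(A' : ↥Spor.M12)} : Set ↥Spor.M12)) _
        (fun x hx => hx.1.1) (hnd.filter _) (fun l hl => (List.mem_filter.1 hl).1) fun x => ?_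
      rw [List.mem_filter, mem_inf, mem_cz, Bool.and_eq_true, hcm, hcm, mem_centralizer_singleton_iff]
      exact ⟨fun h => ⟨hf.mem x, h.1.2, h.2⟩,
        fun h => ⟨⟨mem_centralizer_singleton_iff.1 x.2, h.2.1⟩, h.2.2⟩⟩
    · intro x hx hx2
      let X : (cen z) := ⟨x, hx.1⟩
      have hXA := hall (f X) (hf.mem X)
      rw [← fz, ← hmm, ← hmm, fz, hid, hzc, hf.inj.eq_iff, hf.inj.eq_iff, ← hmB] at hXA
      rcases hXA with (((((e | e) | e) | e) | e) | e) | e
      · rw [(hcm X B').2 (mem_cz.1 hx).2] at e; exact Bool.noConfusion e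
      · rw [beq_eq_false_iff_ne, Ne, hid] at e
        exact absurd (Subtype.ext hx2) e
      · exact Or.inl (congrArg Subtype.val e)
      · exact Or.inr (Or.inl e)
      · exact Or.inr (Or.inr (Or.inl (congrArg Subtype.val e)))
      · exact Or.inr (Or.inr (Or.inr (Or.inl (congrArg Subtype.val e))))
      · exact Or.inr (Or.inr (Or.inr (Or.inr e)))
  · intro k hk
    have hc := k_check
    simp only [kCheck, List.all_eq_true, Bool.and_eq_true, List.any_eq_true, beq_iff_eq,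
      Bool.or_eq_true, Bool.not_eq_eq_eq_not, Bool.not_true, List.contains_iff_mem] at hc
    let K' : (cen z) := ⟨k, inC hk⟩
    obtain ⟨a, haA, hak, hall⟩ := hc _ ((hmK K').1 hk)
    obtain ⟨A', rfl⟩ := hf.surj a (subA a haA)
    refine ⟨A', (hmA A').2 haA, (hcm A' K').1 hak, fun x hx => ?_⟩
    let X : (cen z) := ⟨x, hx.1⟩
    have hX := hall (f X) (hf.mem X)
    rw [← fz, ← hmm, fz, hid, hzc, hf.inj.eq_iff, hf.inj.eq_iff, ← hmK] at hX
    rcases hX with ((((e | e) | e) | e) | e) | e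
    · rw [(hcm X K').2 (mem_cz.1 hx).2] at e; exact Bool.noConfusion e
    · exact Or.inl (congrArg Subtype.val e)
    · exact Or.inr (Or.inl e)
    · exact Or.inr (Or.inr (Or.inl (congrArg Subtype.val e)))
    · exact Or.inr (Or.inr (Or.inr (Or.inl (congrArg Subtype.val e))))
    · exact Or.inr (Or.inr (Or.inr (Or.inr e)))
  · have hcc := count_check
    simp only [Bool.and_eq_true, beq_iff_eq, decide_eq_true_eq] at hcc
    obtain ⟨⟨⟨-, hnd'⟩, h240⟩, -⟩ := hcc
    rw [← h240]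
    have hpl : pairList.Nodup := (hnd'.product ndB).filter _
    have hpmem : ∀ p : ℕ × ℕ, p ∈ pairList ↔ ((p.1 = zc ∨ p.1 ∈ clsA) ∨ p.1 ∈ clsK) ∧ p.2 ∈ clsB ∧
        hits (mm p.1 p.2) 24 (mm p.1 p.2) = true := fun p => by
      obtain ⟨a, b⟩ := p
      unfold pairList
      rw [List.mem_filter, List.pair_mem_product, List.mem_append, List.mem_cons, and_assoc]
    have hsub : ∀ p ∈ pairList, p.1 ∈ centE ∧ p.2 ∈ centE := by
      intro p hp
      obtain ⟨h1, h2, -⟩ := (hpmem p).1 hp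
      rw [or_assoc] at h1
      refine ⟨?_, subB _ h2⟩
      rcases h1 with h | h | h
      · exact h ▸ fz ▸ hf.mem zC
      · exact subA _ h
      · exact subK _ h
    rw [← List.toFinset_card_of_nodup hpl, ← Nat.card_eq_finsetCard]
    have inC1 : ∀ x, x = z ∨ IsA z x ∨ IsK z x → x ∈ (cen z) := fun x hx =>
      hx.elim (fun e => e ▸ hzC) fun e => e.elim inC inC
    have mem_pl : ∀ X Y : (cen z), (((X : ↥Spor.M12) = z ∨ IsA z (X : ↥Spor.M12) ∨ IsK z (X : ↥Spor.M12)) ∧
        IsB z (Y : ↥Spor.M12) ∧ z ∈ zpowers ((X : ↥Spor.M12) * Y)) ↔ (f X, f Y) ∈ pairList := by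
      intro X Y
      rw [hpmem]
      dsimp only
      rw [← hmm, or_assoc]
      exact and_congr (or_congr (hzc X).symm (or_congr (hmA X) (hmK X))) (and_congr (hmB Y) (hzp (X * Y)))
    refine Nat.card_congr (Equiv.ofBijective
      (fun p => ⟨(f ⟨p.1.1, inC1 _ p.2.1⟩, f ⟨p.1.2, inC p.2.2.1⟩),
        List.mem_toFinset.2 ((mem_pl ⟨p.1.1, inC1 _ p.2.1⟩ ⟨p.1.2, inC p.2.2.1⟩).1 p.2)⟩) ⟨?_, ?_⟩)
    · intro a b e
      have e' := congrArg Subtype.val e
      simp only [Prod.mk.injEq, hf.inj.eq_iff, Subtype.mk.injEq] at e'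
      exact Subtype.ext (Prod.ext e'.1 e'.2)
    · rintro ⟨⟨x, y⟩, hxy⟩
      have hxy' : (x, y) ∈ pairList := List.mem_toFinset.1 hxy
      obtain ⟨X, rfl⟩ := hf.surj x (hsub _ hxy').1
      obtain ⟨Y, rfl⟩ := hf.surj y (hsub _ hxy').2
      exact ⟨⟨(X, Y), (mem_pl X Y).2 hxy'⟩, rfl⟩
  · intro k hk
    have hcc := count_check
    simp only [Bool.and_eq_true, List.all_eq_true, Nat.ble_eq] at hcc
    let K' : (cen z) := ⟨k, inC hk⟩
    refine le_of_eq_of_le ?_ (hcc.2 _ ((hmK K').1 hk))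
    refine hcount (fun k' => IsK z k' ∧ z ∉ zpowers (k * k')) _ (fun x hx => inC hx.1)
      (ndK.filter _) (fun l hl => subK _ (List.mem_filter.1 hl).1) fun x => ?_
    rw [avoidList, List.mem_filter, ← hmK, ← hmm, Bool.not_eq_eq_eq_not, Bool.not_true,
      ← Bool.not_eq_true, ← hzp (K' * x), Subgroup.coe_mul]

/-- The properties hold at every 2-central involution of M₁₂. -/
theorem cent_of_twoCentral (u : ↥Spor.M12) (hu : IsTwoCentralInvolution u) : Cent u := by
  haveI : Fact (Nat.Prime 2) := ⟨Nat.prime_two⟩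
  obtain ⟨z, hsq, hne, ⟨f, hf⟩, S, hS⟩ := exists_pack
  obtain ⟨hu2, P, huP, huc⟩ := hu
  obtain ⟨g, hg⟩ := MulAction.exists_smul_eq ↥Spor.M12 P S
  have hPS : ∀ x, x ∈ (P : Subgroup ↥Spor.M12) → g * x * g⁻¹ ∈ (S : Subgroup ↥Spor.M12) := fun x hx => by
    rw [← hg, Sylow.coe_subgroup_smul]
    exact Subgroup.mem_map.2 ⟨x, hx, rfl⟩
  have hSP : ∀ x, x ∈ (S : Subgroup ↥Spor.M12) → g⁻¹ * x * g ∈ (P : Subgroup ↥Spor.M12) := fun x hx => by
    rw [← hg, Sylow.coe_subgroup_smul] at hx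
    obtain ⟨y, hy, rfl⟩ := Subgroup.mem_map.1 hx
    show g⁻¹ * (g * y * g⁻¹) * g ∈ (P : Subgroup ↥Spor.M12)
    rwa [show g⁻¹ * (g * y * g⁻¹) * g = y by group]
  have huz : g * u * g⁻¹ = z := by
    rcases hS _ (hPS u huP) (fun p hp => by
        have h := huc _ (hSP p hp)
        calc g * u * g⁻¹ * p = g * (u * (g⁻¹ * p * g)) * g⁻¹ := by group
          _ = g * (g⁻¹ * p * g * u) * g⁻¹ := by rw [h]
          _ = p * (g * u * g⁻¹) := by group) with e | e
    · rw [conj_eq_one_iff] at e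
      rw [e, orderOf_one] at hu2
      exact absurd hu2 (by norm_num)
    · exact e
  let e : ↥(centralizer ({u} : Set ↥Spor.M12)) ≃* ↥(centralizer ({z} : Set ↥Spor.M12)) :=
    ((MulAut.conj g).subgroupMap _).trans (MulEquiv.subgroupCongr (by
      ext x
      rw [Subgroup.mem_map]
      constructor
      · rintro ⟨y, hy, rfl⟩
        rw [mem_centralizer_singleton_iff] at hy ⊢
        show g * y * g⁻¹ * z = z * (g * y * g⁻¹)
        rw [← huz]
        calc g * y * g⁻¹ * (g * u * g⁻¹) = g * (y * u) * g⁻¹ := by group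
          _ = g * u * g⁻¹ * (g * y * g⁻¹) := by rw [hy]; group
      · intro hx
        rw [mem_centralizer_singleton_iff, ← huz] at hx
        refine ⟨g⁻¹ * x * g, mem_centralizer_singleton_iff.2 ?_, ?_⟩
        · calc g⁻¹ * x * g * u = g⁻¹ * (x * (g * u * g⁻¹)) * g := by group
            _ = u * (g⁻¹ * x * g) := by rw [hx]; group
        · show g * (g⁻¹ * x * g) * g⁻¹ = x
          group))
  exact (hf.cent hsq hne).of_equiv hu2 e

end Mathieu

end Cfsg.Agent.M12Cent
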