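import Mathlib.GroupTheory.Perm.Sign
import Mathlib.Data.Fintype.Perm
import Mathlib.SetTheory.Cardinal.Finite

/-!
# Even involutions of `S₄`, `S₅` and the elements of odd order inverted by them
-/

set_option autoImplicit false
set_option synthInstance.maxSize 2048

namespace Cfsg.Agent.M12Cent

theorem double_conj_four : ∀ s s' : Equiv.Perm (Fin 4), Equiv.Perm.sign s = 1 → s * s = 1 → s ≠ 1 →
    Equiv.Perm.sign s' = 1 → s' * s' = 1 → s' ≠ 1 → ∃ σ : Equiv.Perm (Fin 4), σ * s * σ⁻¹ = s' := by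
  decide +kernel

theorem double_conj_five : ∀ s s' : Equiv.Perm (Fin 5), Equiv.Perm.sign s = 1 → s * s = 1 → s ≠ 1 →
    Equiv.Perm.sign s' = 1 → s' * s' = 1 → s' ≠ 1 → ∃ σ : Equiv.Perm (Fin 5), σ * s * σ⁻¹ = s' := by
  decide +kernel

/-- An even involution and an element of odd order inverted by it. -/
abbrev InvPair (n : ℕ) (p : Equiv.Perm (Fin n) × Equiv.Perm (Fin n)) : Prop :=
  (Equiv.Perm.sign p.1 = 1 ∧ p.1 * p.1 = 1 ∧ p.1 ≠ 1) ∧ p.2 ^ 15 = 1 ∧ p.1 * p.2 * p.1⁻¹ = p.2⁻¹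

theorem card_pairs_four : Nat.card {p // InvPair 4 p} = 3 := by
  rw [Nat.card_eq_fintype_card]
  decide +kernel

theorem card_pairs_five : Nat.card {p // InvPair 5 p} = 195 := by
  rw [Nat.card_eq_fintype_card]
  decide +kernel

end Cfsg.Agent.M12Cent
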