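import Cfsg.Agent.Lib.M12Cent.Other
import Cfsg.Agent.Lib.M12Cent.Pairs
import Cfsg.Agent.S0213

/-!
# The group order 95040
-/

set_option autoImplicit false
set_option linter.style.haveILetI false
set_option linter.unusedSectionVars false
set_option synthInstance.maxSize 2048

namespace Cfsg.Agent.M12Cent

open Subgroup

universe u
variable {G : Type u} [Group G] [Finite G] [IsSimpleGroup G] {z : G}

namespace Cent

variable (h : Cent z) (hG : ¬ IsMulCommutative G)
include h hG

theorem no_root {b f : G} (hb : IsB z b) (hfb : Commute f b) : f * f ≠ b := by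
  haveI : Fact (Nat.Prime 2) := ⟨Nat.prime_two⟩
  intro hf
  set H := centralizer ({b} : Set G)
  have hRH : cz z b ≤ H := inf_le_right
  obtain ⟨D, hD⟩ := (IsPGroup.of_card (p := 2) (n := 4) (by
    rw [Nat.card_congr (subgroupOfEquivOfLe hRH).toEquiv, hb.2.2.2.2]; norm_num) :
    IsPGroup 2 ↥((cz z b).subgroupOf H)).exists_le_sylow
  have hDR : (D : Subgroup ↥H).map H.subtype = cz z b :=
    h.b_maximal hb (D.2.map _) (map_subtype_le _) fun x hx => ⟨⟨x, hRH hx⟩, hD hx, rfl⟩
  set fH : ↥H := ⟨f, mem_centralizer_singleton_iff.2 hfb⟩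
  have h4 : IsPGroup 2 ↥(zpowers fH) := by
    intro ⟨x, hx⟩
    obtain ⟨i, rfl⟩ := mem_zpowers_iff.1 hx
    refine ⟨2, Subtype.ext ?_⟩
    show (fH ^ i) ^ (2 ^ 2) = 1
    rw [← zpow_natCast, ← zpow_mul, mul_comm, zpow_mul, zpow_natCast]
    have : fH ^ (2 ^ 2) = 1 := Subtype.ext (by
      show f ^ (2 ^ 2) = 1
      rw [show 2 ^ 2 = 2 * 2 by norm_num, pow_mul, pow_two, pow_two, hf, hb.2.1])
    rw [this, one_zpow]
  obtain ⟨D', hD'⟩ := h4.exists_le_sylow
  obtain ⟨d, hd⟩ := MulAction.exists_smul_eq ↥H D' D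
  have hm : (d : G) * f * (d : G)⁻¹ ∈ cz z b := by
    rw [← hDR]
    refine ⟨d * fH * d⁻¹, ?_, rfl⟩
    show d * fH * d⁻¹ ∈ (D : Subgroup ↥H)
    rw [← hd, Sylow.coe_subgroup_smul, mem_pointwise_smul_iff_inv_smul_mem]
    simpa [MulAut.smul_def, mul_assoc] using hD' (mem_zpowers fH)
  have hdb : (d : G) * b * (d : G)⁻¹ = b := mul_inv_eq_iff_eq_mul.2 (mem_centralizer_singleton_iff.1 d.2)
  rcases h.b_sq b hb _ hm with e | e <;> rw [conj_mul, hf, hdb] at e
  · exact hb.2.2.1 e
  · exact hb.2.2.2.1 e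

theorem odd_pow_fifteen {n : ℕ} (hn : n = 4 ∨ n = 5) {t : Equiv.Perm (Fin n)} (ht : Odd (orderOf t)) :
    t ^ 15 = 1 := by
  have h1 := orderOf_dvd_natCard t
  rw [Nat.card_perm, Nat.card_fin] at h1
  have h2 : orderOf t ∣ 8 * 15 := by
    rcases hn with rfl | rfl <;> exact h1.trans (by decide)
  exact orderOf_dvd_iff_pow_eq_one.1
    (((Nat.coprime_two_right.2 ht).pow_right 3).dvd_of_dvd_mul_left h2)

theorem card_pairs_b {b : G} (hb : IsB z b) {n : ℕ} (hn : n = 4 ∨ n = 5)
    (π : ↥(centralizer ({b} : Set G)) →* Equiv.Perm (Fin n)) (hπ : Function.Surjective π)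
    (hker : ∀ x : ↥(centralizer ({b} : Set G)), π x = 1 ↔ (x : G) = 1 ∨ (x : G) = b)
    (hzimg : ∀ x : ↥(centralizer ({b} : Set G)), (x : G) = z →
        Equiv.Perm.sign (π x) = 1 ∧ π x * π x = 1 ∧ π x ≠ 1)
    (hconj : ∀ x x' : ↥(centralizer ({b} : Set G)), (x : G) = z → IsConj z (x' : G) →
        ∃ d : ↥(centralizer ({b} : Set G)), d * x * d⁻¹ = x') :
    Nat.card {p : G × G // IsConj z p.1 ∧ IsConj b p.2 ∧ b ∈ zpowers (p.1 * p.2)} =
      Nat.card {p // InvPair n p} := by
  classical
  set zH : ↥(centralizer ({b} : Set G)) := ⟨z, mem_centralizer_singleton_iff.2 hb.1.symm⟩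
  set bH : ↥(centralizer ({b} : Set G)) := ⟨b, mem_centralizer_singleton_iff.2 rfl⟩
  have hb2 : bH * bH = 1 := Subtype.ext hb.2.1
  have hbc : ∀ x : ↥(centralizer ({b} : Set G)), Commute bH x := fun x => Subtype.ext (mem_centralizer_singleton_iff.1 x.2).symm
  have hbπ : π bH = 1 := (hker bH).2 (Or.inr rfl)
  have hinv2 : ∀ {u : G}, IsConj z u → u * u = 1 ∧ u ≠ 1 := fun hu => by
    obtain ⟨c, hc⟩ := isConj_iff.1 hu
    exact ⟨by rw [← hc, conj_mul, h.sq, mul_one, mul_inv_cancel],
      fun e => h.ne (conj_eq_one_iff.1 (hc.trans e))⟩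
  have hlift : ∀ {x x' : ↥(centralizer ({b} : Set G))}, π x = π x' → x' = x ∨ x' = x * bH := fun {x x'} e => by
    have : π (x⁻¹ * x') = 1 := by rw [map_mul, map_inv, e, inv_mul_cancel]
    rcases (hker _).1 this with r | r
    · left; exact (inv_mul_eq_one.1 (Subtype.ext r)).symm
    · right; exact inv_mul_eq_iff_eq_mul.1 (Subtype.ext r)
  have hoddlift : ∀ {x x' : ↥(centralizer ({b} : Set G))}, Odd (orderOf x) → Odd (orderOf x') → π x = π x' → x' = x := by
    intro x x' hx hx' e
    refine (hlift e).resolve_right fun r => ?_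
    have h1 : x' ^ (orderOf x' * orderOf x) = 1 := by rw [pow_mul, pow_orderOf_eq_one, one_pow]
    rw [r, (hbc x).symm.mul_pow, mul_comm (orderOf (x * bH)), pow_mul x, pow_orderOf_eq_one, one_pow,
      one_mul] at h1
    have hodd : Odd (orderOf x * orderOf (x * bH)) := hx.mul (r ▸ hx')
    obtain ⟨j, hj⟩ := hodd
    rw [hj, pow_succ, pow_mul, pow_two, hb2, one_pow, one_mul] at h1
    exact hb.2.2.1 (congrArg Subtype.val h1)
  -- the forward map
  have hfwd : ∀ p : {p : G × G // IsConj z p.1 ∧ IsConj b p.2 ∧ b ∈ zpowers (p.1 * p.2)},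
      ∃ (u v : ↥(centralizer ({b} : Set G))) (w : ↥(centralizer ({b} : Set G))), (u : G) = p.1.1 ∧ (v : G) = p.1.2 ∧ Odd (orderOf w) ∧
        v = u * bH * w ∧ InvPair n (π u, π w) := by
    rintro ⟨⟨u, v⟩, hu, hv, hbz⟩
    obtain ⟨hu2, hu1⟩ := hinv2 hu
    obtain ⟨c, hc⟩ := isConj_iff.1 hv
    have hv2 : v * v = 1 := by
      have : c * b * c⁻¹ = v := hc
      rw [← this, conj_mul, hb.2.1, mul_one, mul_inv_cancel]
    obtain ⟨i, hi⟩ := mem_zpowers_iff.1 hbz
    simp only at hi hu hv
    have hub : Commute u b := by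
      have e := Involution.invol_conj_zpow (Involution.invol_conj_mul hu2 hv2) i
      rw [zpow_neg, hi, inv_eq_of_mul_eq_one_right hb.2.1] at e
      exact mul_inv_eq_iff_eq_mul.1 e
    have hwb : Commute (u * v) b := hi ▸ (Commute.refl _).zpow_right i
    have hvb : Commute v b := by
      have := hub.mul_left hwb
      rwa [← mul_assoc, hu2, one_mul] at this
    set uH : ↥(centralizer ({b} : Set G)) := ⟨u, mem_centralizer_singleton_iff.2 hub⟩
    set vH : ↥(centralizer ({b} : Set G)) := ⟨v, mem_centralizer_singleton_iff.2 hvb⟩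
    set w := uH * vH with hw
    have hwi : w ^ i = bH := Subtype.ext (by rw [coe_zpow]; exact hi)
    have hbord : orderOf bH = 2 := orderOf_eq_prime (by rw [pow_two]; exact hb2) fun e =>
      hb.2.2.1 (congrArg Subtype.val e)
    obtain ⟨m, hm⟩ : 2 ∣ orderOf w := by
      have := orderOf_dvd_natCard (⟨bH, hwi ▸ zpow_mem (mem_zpowers w) i⟩ : ↥(zpowers w))
      rwa [orderOf_mk, hbord, Nat.card_zpowers] at this
    have hm0 : 0 < m := by
      have := orderOf_pos w; omega
    have hwm : w ^ m = bH := by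
      -- the only involution of a cyclic group
      have h2 : bH ^ 2 = 1 := by rw [pow_two]; exact hb2
      rw [← hwi, ← zpow_natCast (w ^ i) 2, ← zpow_mul, ← orderOf_dvd_iff_zpow_eq_one, hm] at h2
      push_cast at h2
      obtain ⟨j, hj⟩ := h2
      have hij : i = (m : ℤ) * j := by linarith
      have hwm2 : (w ^ m) ^ 2 = 1 := by rw [← pow_mul, mul_comm, ← hm, pow_orderOf_eq_one]
      rw [← hwi, hij, zpow_mul, zpow_natCast]
      rcases Int.even_or_odd' j with ⟨l, rfl | rfl⟩
      · exfalso
        rw [hij, zpow_mul, zpow_natCast, zpow_mul, show (w ^ m) ^ (2 : ℤ) = (w ^ m) ^ (2 : ℕ) from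
          zpow_natCast (w ^ m) 2, hwm2, one_zpow] at hwi
        exact hb.2.2.1 (congrArg Subtype.val hwi.symm)
      · rw [zpow_add_one, zpow_mul, show (w ^ m) ^ (2 : ℤ) = (w ^ m) ^ (2 : ℕ) from
          zpow_natCast (w ^ m) 2, hwm2, one_zpow, one_mul]
    have hmodd : Odd m := by
      rcases Nat.even_or_odd m with ⟨l, hl⟩ | ho
      · exfalso
        refine h.no_root hG hb (f := ((w ^ l : ↥(centralizer ({b} : Set G))) : G)) (mem_centralizer_singleton_iff.1 (w ^ l).2) ?_
        rw [← coe_mul, ← pow_add, ← hl, hwm]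
      · exact ho
    refine ⟨uH, vH, bH * w, rfl, rfl, ?_, ?_, ?_⟩
    · refine Odd.of_dvd_nat hmodd (orderOf_dvd_of_pow_eq_one ?_)
      obtain ⟨l, hl⟩ := hmodd
      rw [(hbc w).mul_pow, hwm, hl, pow_succ, pow_mul, pow_two, hb2, one_pow, one_mul, hb2]
    · rw [mul_assoc, ← mul_assoc bH bH, hb2, one_mul, hw, ← mul_assoc,
        show uH * uH = 1 from Subtype.ext hu2, one_mul]
    · obtain ⟨d, hd⟩ := hconj zH uH rfl hu
      obtain ⟨hs1, hs2, hs3⟩ := hzimg zH rfl
      have hπu : π uH = π d * π zH * (π d)⁻¹ := by rw [← hd, map_mul, map_mul, map_inv]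
      have hu2' : π uH * π uH = 1 := by rw [← map_mul, show uH * uH = 1 from Subtype.ext hu2, map_one]
      refine ⟨⟨?_, hu2', ?_⟩, ?_, ?_⟩
      · rw [hπu, map_mul, map_mul, map_inv, hs1, mul_one, mul_inv_cancel]
      · rw [hπu]; exact fun e => hs3 (conj_eq_one_iff.1 e)
      · refine odd_pow_fifteen h hG hn (Odd.of_dvd_nat ?_ (orderOf_map_dvd π (bH * w)))
        refine Odd.of_dvd_nat hmodd (orderOf_dvd_of_pow_eq_one ?_)
        obtain ⟨l, hl⟩ := hmodd
        rw [(hbc w).mul_pow, hwm, hl, pow_succ, pow_mul, pow_two, hb2, one_pow, one_mul, hb2]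
      · rw [map_mul, hbπ, one_mul, hw, map_mul]
        exact Involution.invol_conj_mul hu2'
          (by rw [← map_mul, show vH * vH = 1 from Subtype.ext hv2, map_one])
  choose U V W hU hV hWodd hVeq hpair using hfwd
  refine Nat.card_eq_of_bijective (fun p => (⟨(π (U p), π (W p)), hpair p⟩ : {p // InvPair n p}))
    ⟨fun p p' e => ?_, fun q => ?_⟩
  · have e1 := congrArg (fun x => x.1.1) e
    have e2 := congrArg (fun x => x.1.2) e
    simp only at e1 e2
    have hW : W p' = W p := hoddlift (hWodd p) (hWodd p') e2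
    have hU' : U p' = U p := by
      refine (hlift e1).resolve_right fun r => ?_
      -- the other lift is not conjugate to `z`
      obtain ⟨d, hd⟩ := hconj zH (U p) rfl (by rw [hU]; exact p.2.1)
      have hzp' : IsConj z ((U p' : ↥(centralizer ({b} : Set G))) : G) := by rw [hU]; exact p'.2.1
      have : IsConj (z * b) ((U p' : ↥(centralizer ({b} : Set G))) : G) := isConj_iff.2 ⟨d, by
        rw [r, ← hd]
        show (d : G) * (z * b) * (d : G)⁻¹ = (d : G) * z * (d : G)⁻¹ * b
        rw [mul_assoc _ (d : G)⁻¹ b, (Commute.inv_left (mem_centralizer_singleton_iff.1 d.2 : Commute (d : G) b)).eq]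
        group⟩
      obtain ⟨a, y, -, -, -, -, -, -, -, hzb, -⟩ := h.b_involutions hb
      exact h.not_conj_B hzb (hzp'.trans this.symm)
    have hV' : V p' = V p := by rw [hVeq p', hVeq p, hU', hW]
    refine Subtype.ext (Prod.ext ?_ ?_)
    · rw [← hU p, ← hU p', hU']
    · rw [← hV p, ← hV p', hV']
  · obtain ⟨⟨s, t⟩, ⟨hs1, hs2, hs3⟩, ht, hst⟩ := q
    obtain ⟨hz1, hz2, hz3⟩ := hzimg zH rfl
    obtain ⟨σ, hσ⟩ : ∃ σ, σ * π zH * σ⁻¹ = s := by
      rcases hn with rfl | rfl
      · exact double_conj_four _ _ hz1 hz2 hz3 hs1 hs2 hs3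
      · exact double_conj_five _ _ hz1 hz2 hz3 hs1 hs2 hs3
    obtain ⟨d, rfl⟩ := hπ σ
    obtain ⟨x, hx⟩ := hπ t
    set uH := d * zH * d⁻¹ with huH
    set w := x ^ 16 with hwdef
    have hw15 : w ^ 15 = 1 := by
      have : π (x ^ 15) = 1 := by rw [map_pow, hx, ht]
      rcases (hker _).1 this with r | r
      · rw [hwdef, ← pow_mul, mul_comm, pow_mul, show x ^ 15 = 1 from Subtype.ext r, one_pow]
      · rw [hwdef, ← pow_mul, mul_comm, pow_mul, show x ^ 15 = bH from Subtype.ext r,
          show (16 : ℕ) = 2 * 8 by norm_num, pow_mul, pow_two, hb2, one_pow]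
    have hwodd : Odd (orderOf w) := Odd.of_dvd_nat (by decide) (orderOf_dvd_of_pow_eq_one hw15)
    have hπw : π w = t := by
      rw [hwdef, map_pow, hx, pow_succ, ht, one_mul]
    have hπu : π uH = s := by rw [huH, map_mul, map_mul, map_inv]; exact hσ
    have huu : uH * uH = 1 := by
      rw [huH, conj_mul, show zH * zH = 1 from Subtype.ext h.sq, mul_one, mul_inv_cancel]
    have hinvw : uH * w * uH⁻¹ = w⁻¹ := by
      refine hoddlift (by rw [orderOf_inv]; exact hwodd) (by rw [← MulAut.conj_apply, MulEquiv.orderOf_eq]; exact hwodd) ?_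
      rw [map_inv, map_mul, map_mul, map_inv, hπw, hπu, hst]
    have huw : uH * w * (uH * w) = 1 := by
      calc uH * w * (uH * w) = uH * w * uH⁻¹ * (uH * uH) * w := by group
        _ = 1 := by rw [hinvw, huu, mul_one, inv_mul_cancel]
    set vH := uH * bH * w
    have hu' : IsConj z (uH : G) := isConj_iff.2 ⟨d, rfl⟩
    have hv' : IsConj b (vH : G) := by
      obtain ⟨e, -, he⟩ := Involution.exists_conj_pair_of_odd huu huw (by
        rw [← mul_assoc, huu, one_mul]; exact hwodd)
      obtain ⟨a, y, -, -, -, -, -, -, -, hzb, -⟩ := h.b_involutions hb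
      refine (h.isConj_of_isT hb hzb).trans (isConj_iff.2 ⟨(e * d : ↥(centralizer ({b} : Set G))), ?_⟩)
      have : (e * d) * (zH * bH) * (e * d)⁻¹ = vH := by
        show _ = uH * bH * w
        rw [mul_assoc uH, (hbc w).eq, ← mul_assoc uH, ← he, huH]
        calc e * d * (zH * bH) * (e * d)⁻¹ = e * d * zH * (bH * (e * d)⁻¹) := by group
          _ = _ := by rw [(hbc (e * d)⁻¹).eq]; group
      exact congrArg Subtype.val this
    have huv : uH * vH = bH * w := by
      show uH * (uH * bH * w) = _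
      rw [← mul_assoc, ← mul_assoc, huu, one_mul]
    have hbmem : b ∈ zpowers ((uH : G) * (vH : G)) := by
      refine mem_zpowers_iff.2 ⟨((15 : ℕ) : ℤ), ?_⟩
      rw [zpow_natCast]
      have : (uH * vH) ^ 15 = bH := by
        rw [huv, (hbc w).mul_pow, hw15, mul_one, show (15 : ℕ) = 2 * 7 + 1 by norm_num, pow_succ, pow_mul,
          pow_two, hb2, one_pow, one_mul]
      simpa using congrArg Subtype.val this
    set p : {p : G × G // IsConj z p.1 ∧ IsConj b p.2 ∧ b ∈ zpowers (p.1 * p.2)} :=
      ⟨((uH : G), (vH : G)), hu', hv', hbmem⟩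
    have hUp : U p = uH := Subtype.ext (hU p)
    have hVp : V p = vH := Subtype.ext (hV p)
    have hWp : W p = w := by
      have := hVeq p
      rw [hUp, hVp] at this
      exact (mul_left_cancel this).symm
    refine ⟨p, Subtype.ext (Prod.ext ?_ ?_)⟩
    · show π (U p) = s; rw [hUp, hπu]
    · show π (W p) = t; rw [hWp, hπw]

theorem card_pairs_z {b : G} (hb : IsB z b) :
    Nat.card {p : G × G // IsConj z p.1 ∧ IsConj b p.2 ∧ z ∈ zpowers (p.1 * p.2)} = 240 := by
  rw [← h.pairs]
  refine Nat.card_congr (Equiv.subtypeEquivRight fun p => ?_)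
  obtain ⟨u, v⟩ := p
  constructor
  · rintro ⟨hu, hv, hz⟩
    obtain ⟨c, hc⟩ := isConj_iff.1 hu
    obtain ⟨c', hc'⟩ := isConj_iff.1 hv
    simp only at hc hc' hz
    have hu2 : u * u = 1 := by rw [← hc, conj_mul, h.sq, mul_one, mul_inv_cancel]
    have hu1 : u ≠ 1 := fun e => h.ne (conj_eq_one_iff.1 (hc.trans e))
    have hv2 : v * v = 1 := by rw [← hc', conj_mul, hb.2.1, mul_one, mul_inv_cancel]
    have hv1 : v ≠ 1 := fun e => hb.2.2.1 (conj_eq_one_iff.1 (hc'.trans e))
    obtain ⟨i, hi⟩ := mem_zpowers_iff.1 hz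
    have huz : Commute u z := by
      have e := Involution.invol_conj_zpow (Involution.invol_conj_mul hu2 hv2) i
      rw [zpow_neg, hi, inv_eq_of_mul_eq_one_right h.sq] at e
      exact mul_inv_eq_iff_eq_mul.1 e
    have hwz : Commute (u * v) z := hi ▸ (Commute.refl _).zpow_right i
    have hvz : Commute v z := by
      have := huz.mul_left hwz
      rwa [← mul_assoc, hu2, one_mul] at this
    have hnv : ¬ IsConj z v := fun e => h.not_conj_B hb (e.trans (isConj_iff.2 ⟨c', hc'⟩).symm)
    rw [h.isConj_iff_mem hG hvz hv2 hv1] at hnv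
    simp only [not_or] at hnv
    exact ⟨(h.isConj_iff_mem hG huz hu2 hu1).1 hu,
      ((h.cases v hvz hv2 hv1 hnv.1).resolve_left hnv.2.1).resolve_right hnv.2.2, hz⟩
  · rintro ⟨hu, hv, hz⟩
    refine ⟨?_, h.isConj_of_isT hb hv, hz⟩
    rcases hu with rfl | hA | hK
    exacts [IsConj.refl _, h.conj_A hG hA, h.conj_K hG hK]

/-- A group of order 12096 is excluded by counting the conjugates of `z`. -/
theorem card_ne : Nat.card G ≠ 12096 := by
  classical
  intro hcard
  haveI := Fintype.ofFinite G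
  set X : Finset G := Finset.univ.filter fun x => IsConj z x with hX
  have hXcard : X.card = 63 := by
    have h1 : Set.ncard (MulAction.orbit (ConjAct G) z) = 63 := by
      rw [← MulAction.index_stabilizer, ConjAct.stabilizer_eq_centralizer]
      have h2 := card_mul_index (centralizer ({ConjAct.toConjAct z} : Set (ConjAct G)))
      have h3 : Nat.card (centralizer ({ConjAct.toConjAct z} : Set (ConjAct G))) = 192 := h.card
      rw [h3] at h2
      have h4 : Nat.card (ConjAct G) = 12096 := hcard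
      rw [h4] at h2
      omega
    rw [← h1, ← Set.ncard_coe_finset]
    congr 1
    ext x
    simp only [hX, Finset.coe_filter, Finset.mem_univ, true_and, Set.mem_setOf_eq, ConjAct.mem_orbit_conjAct]
    exact isConj_comm
  set K : Finset G := Finset.univ.filter fun k => IsK z k with hK
  have hKcard : K.card = 24 := by
    rw [← h.countK, Nat.card_eq_fintype_card, Fintype.card_subtype]
  set S : Finset G := X.filter fun x => Commute x z with hS
  have hScard : S.card = 31 := by
    have hAf : (Finset.univ.filter fun a => IsA z a).card = 6 := by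
      rw [← h.countA, Nat.card_eq_fintype_card, Fintype.card_subtype]
    have e : S = {z} ∪ ((Finset.univ.filter fun a => IsA z a) ∪ K) := by
      ext x
      simp only [hS, hX, hK, Finset.mem_filter, Finset.mem_univ, true_and, Finset.mem_union, Finset.mem_singleton]
      constructor
      · rintro ⟨hc, hxz⟩
        obtain ⟨c, hc'⟩ := isConj_iff.1 hc
        exact (h.isConj_iff_mem hG hxz (by rw [← hc', conj_mul, h.sq, mul_one, mul_inv_cancel])
          (fun e => h.ne (conj_eq_one_iff.1 (hc'.trans e)))).1 hc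
      · rintro (rfl | hA | hK)
        · exact ⟨IsConj.refl _, Commute.refl _⟩
        · exact ⟨h.conj_A hG hA, hA.1⟩
        · exact ⟨h.conj_K hG hK, hK.1⟩
    have hd1 : Disjoint (Finset.univ.filter fun a => IsA z a) K := by
      rw [Finset.disjoint_left]
      intro x hx hx'
      simp only [hK, Finset.mem_filter, Finset.mem_univ, true_and] at hx hx'
      have := hx.inj hx'
      omega
    have hd2 : Disjoint ({z} : Finset G) ((Finset.univ.filter fun a => IsA z a) ∪ K) := by
      rw [Finset.disjoint_singleton_left]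
      simp only [hK, Finset.mem_union, Finset.mem_filter, Finset.mem_univ, true_and]
      rintro (hx | hx) <;> exact hx.2.2.2.1 rfl
    rw [e, Finset.card_union_of_disjoint hd2, Finset.card_union_of_disjoint hd1, hAf, hKcard,
      Finset.card_singleton]
  set F : Finset G := X.filter fun x => ¬ Commute x z with hF
  have hFcard : F.card = 32 := by
    have := Finset.card_filter_add_card_filter_not (s := X) (fun x => Commute x z)
    rw [← hS, ← hF, hScard, hXcard] at this
    omega
  have hrow : ∀ k ∈ K, 24 ≤ (F.filter fun x => Commute x k).card := by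
    intro k hk
    rw [hK, Finset.mem_filter] at hk
    obtain ⟨g, hg⟩ := isConj_iff.1 (h.conj_K hG hk.2)
    set T := X.filter fun x => Commute x k with hT
    have hTcard : T.card = 31 := by
      rw [← hScard]
      refine (Finset.card_bij (fun x _ => g * x * g⁻¹) (fun x hx => ?_) (fun x _ x' _ e => ?_)
        fun x hx => ⟨g⁻¹ * x * g, ?_, by group⟩).symm
      · simp only [hS, hT, hX, Finset.mem_filter, Finset.mem_univ, true_and] at hx ⊢
        refine ⟨hx.1.trans (isConj_iff.2 ⟨g, rfl⟩), ?_⟩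
        show g * x * g⁻¹ * k = k * (g * x * g⁻¹)
        rw [← hg, conj_mul, conj_mul, hx.2.eq]
      · exact mul_left_cancel (mul_right_cancel e)
      · simp only [hS, hT, hX, Finset.mem_filter, Finset.mem_univ, true_and] at hx ⊢
        refine ⟨hx.1.trans (isConj_iff.2 ⟨g⁻¹, by rw [inv_inv]⟩), ?_⟩
        show g⁻¹ * x * g * z = z * (g⁻¹ * x * g)
        calc g⁻¹ * x * g * z = g⁻¹ * (x * (g * z * g⁻¹)) * g := by group
          _ = _ := by rw [hg, hx.2.eq, ← hg]; group
    have hin : (T.filter fun x => Commute x z).card ≤ 7 := by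
      have hsub : (T.filter fun x => Commute x z) ⊆
          (Finset.univ.filter fun x => x ∈ cz z k).erase 1 := by
        intro x hx
        simp only [hT, hX, Finset.mem_filter, Finset.mem_univ, true_and, Finset.mem_erase, mem_cz] at hx ⊢
        refine ⟨fun e => h.ne ?_, hx.2, hx.1.2⟩
        have := hx.1.1
        rw [e] at this
        exact isConj_one_left.1 this
      refine (Finset.card_le_card hsub).trans (le_of_eq ?_)
      rw [Finset.card_erase_of_mem (by simp [one_mem]), ← Fintype.card_subtype, ← Nat.card_eq_fintype_card]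
      have := hk.2.2.2.2.2
      change Nat.card ↥(cz z k) - 1 = 7
      omega
    have := Finset.card_filter_add_card_filter_not (s := T) (fun x => Commute x z)
    have hFT : (T.filter fun x => ¬ Commute x z) = F.filter fun x => Commute x k := by
      ext x; simp only [hT, hF, Finset.mem_filter]; tauto
    rw [hFT, hTcard] at this
    omega
  have hcol : ∀ x ∈ F, (K.filter fun k => Commute x k).card ≤ 11 := by
    intro x hx
    rcases (K.filter fun k => Commute x k).eq_empty_or_nonempty with e | ⟨k₀, hk₀⟩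
    · rw [e]; simp
    simp only [hK, Finset.mem_filter, Finset.mem_univ, true_and] at hk₀
    refine le_trans ?_ (h.avoid k₀ hk₀.1)
    rw [Nat.card_eq_fintype_card, Fintype.card_subtype]
    refine Finset.card_le_card fun k hk => ?_
    simp only [hK, Finset.mem_filter, Finset.mem_univ, true_and] at hk ⊢
    refine ⟨hk.1, fun hz => ?_⟩
    have hle : zpowers (k₀ * k) ≤ centralizer ({x} : Set G) :=
      zpowers_le.2 (mem_centralizer_singleton_iff.2 (hk₀.2.symm.mul_left hk.2.symm))
    rw [hF, Finset.mem_filter] at hx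
    exact hx.2 (mem_centralizer_singleton_iff.1 (hle hz)).symm
  have h1 : 24 * 24 ≤ ∑ k ∈ K, (F.filter fun x => Commute x k).card := by
    calc 24 * 24 = ∑ _k ∈ K, 24 := by rw [Finset.sum_const, hKcard, smul_eq_mul]
      _ ≤ _ := Finset.sum_le_sum hrow
  have h2 : ∑ k ∈ K, (F.filter fun x => Commute x k).card = ∑ x ∈ F, (K.filter fun k => Commute x k).card :=
    (Finset.sum_card_bipartiteAbove_eq_sum_card_bipartiteBelow (r := fun x k => Commute x k)).symm
  have h3 : ∑ x ∈ F, (K.filter fun k => Commute x k).card ≤ 32 * 11 := by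
    calc ∑ x ∈ F, (K.filter fun k => Commute x k).card ≤ ∑ _x ∈ F, 11 := Finset.sum_le_sum hcol
      _ = 32 * 11 := by rw [Finset.sum_const, hFcard, smul_eq_mul]
  omega

/-- **The order of a simple group with the centraliser of a 2-central involution of M₁₂.** -/
theorem card_eq : Nat.card G = 95040 := by
  obtain ⟨b, hb⟩ := h.exists_B
  obtain ⟨n, hn, π, hπ, hker, hzimg, hconj⟩ := h.exists_quot hG hb
  have hform := S0213.result z b h.orderOf_z
    (orderOf_eq_prime (by rw [pow_two]; exact hb.2.1) hb.2.2.1) (h.not_conj_B hb)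
    fun t ht => h.two_classes hG hb (Involution.sq_of_orderOf_two ht) (fun e => by
      rw [e, orderOf_one] at ht; omega)
  rw [h.card_pairs_z hG hb, h.card_pairs_b hG hb hn π hπ hker hzimg hconj, h.card] at hform
  have hH : Nat.card ↥(centralizer ({b} : Set G)) = 2 * Nat.card (Equiv.Perm (Fin n)) := by
    have h1 := π.ker.card_mul_index
    rw [index_ker, MonoidHom.range_eq_top.2 hπ, card_top] at h1
    have hk : π.ker = (zpowers b).subgroupOf (centralizer ({b} : Set G)) := by
      ext x
      rw [MonoidHom.mem_ker, hker, mem_subgroupOf, mem_zpowers_invol hb.2.1]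
    rw [hk, Nat.card_congr (subgroupOfEquivOfLe (zpowers_le.2 (mem_centralizer_singleton_iff.2 rfl))).toEquiv,
      Nat.card_zpowers, orderOf_eq_prime (by rw [pow_two]; exact hb.2.1) hb.2.2.1] at h1
    exact h1.symm
  rw [hH, Nat.card_perm, Nat.card_fin] at hform
  rcases hn with rfl | rfl
  · rw [card_pairs_four, show Nat.factorial 4 = 24 from rfl] at hform
    exact absurd (by omega) (h.card_ne hG)
  · rw [card_pairs_five, show Nat.factorial 5 = 120 from rfl] at hform
    omega

end Cent

end Cfsg.Agent.M12Cent
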