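import Cfsg.Agent.Lib.M12Cent.Closed
import Cfsg.Agent.Lib.M12Cent.Dihedral
import Cfsg.Agent.Lib.DihedralCent.Identify

/-!
# The centraliser of the other class of involutions: `2 × S₄` or `2 × S₅` modulo its centre
-/

set_option autoImplicit false
set_option linter.style.haveILetI false
set_option linter.unusedSectionVars false

namespace Cfsg.Agent.M12Cent

open Subgroup

universe u
variable {G : Type u} [Group G] [Finite G] {z : G}

theorem mem_zpowers_invol {b x : G} (hb : b * b = 1) : x ∈ zpowers b ↔ x = 1 ∨ x = b := by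
  refine ⟨fun hx => ?_, fun hx => ?_⟩
  · obtain ⟨i, rfl⟩ := mem_zpowers_iff.1 hx
    obtain ⟨j, rfl | rfl⟩ := Int.even_or_odd' i
    · left; rw [zpow_mul, show b ^ (2 : ℤ) = b * b by exact zpow_two b, hb, one_zpow]
    · right; rw [zpow_add_one, zpow_mul, show b ^ (2 : ℤ) = b * b by exact zpow_two b, hb, one_zpow, one_mul]
  · rcases hx with rfl | rfl
    exacts [one_mem _, mem_zpowers _]

variable [IsSimpleGroup G]

namespace Cent

variable (h : Cent z) (hG : ¬ IsMulCommutative G)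
include h hG

theorem isConj_iff_mem {x : G} (hxz : Commute x z) (hx : x * x = 1) (hx1 : x ≠ 1) :
    IsConj z x ↔ x = z ∨ IsA z x ∨ IsK z x := by
  constructor
  · intro hc
    by_cases e : x = z
    · exact Or.inl e
    rcases h.cases x hxz hx hx1 e with hA | hB | hK
    · exact Or.inr (Or.inl hA)
    · exact absurd hc (h.not_conj_B hB)
    · exact Or.inr (Or.inr hK)
  · rintro (rfl | hA | hK)
    exacts [IsConj.refl _, h.conj_A hG hA, h.conj_K hG hK]

theorem two_classes {b : G} (hb : IsB z b) {x : G} (hx : x * x = 1) (hx1 : x ≠ 1) :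
    IsConj z x ∨ IsConj b x := by
  rcases h.invol_cases hx hx1 with hc | ⟨y, hxy, hy⟩
  · exact Or.inl hc
  rcases hy with hA | hB | hK
  · exact Or.inl ((h.conj_A hG hA).trans hxy.symm)
  · exact Or.inr ((h.isConj_of_isT hb hB).trans hxy.symm)
  · exact Or.inl ((h.conj_K hG hK).trans hxy.symm)

/-- An involution conjugate to `z` commuting with `b` sees `b` in its class `B`. -/
theorem card_cz_of_conj {b x : G} (hb : IsB z b) (hxb : Commute x b) (hx : IsConj z x) :
    Nat.card (cz x b) = 16 := by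
  obtain ⟨g, hg⟩ := isConj_iff.1 hx
  have hcm : Commute (g⁻¹ * b * g) z := by
    show g⁻¹ * b * g * z = z * (g⁻¹ * b * g)
    calc g⁻¹ * b * g * z = g⁻¹ * (b * (g * z * g⁻¹)) * g := by group
      _ = _ := by rw [hg, hxb.symm.eq, ← hg]; group
  have hne1 : g⁻¹ * b * g ≠ 1 := fun e => hb.2.2.1 (by
    rw [show b = g * (g⁻¹ * b * g) * g⁻¹ by group, e, mul_one, mul_inv_cancel])
  have hsq : g⁻¹ * b * g * (g⁻¹ * b * g) = 1 := by
    rw [show g⁻¹ * b * g * (g⁻¹ * b * g) = g⁻¹ * (b * b) * g by group, hb.2.1, mul_one, inv_mul_cancel]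
  have hnc : ¬ IsConj z (g⁻¹ * b * g) := fun e =>
    h.not_conj_B hb (e.trans (isConj_iff.2 ⟨g, by group⟩))
  rw [h.isConj_iff_mem hG hcm hsq hne1] at hnc
  simp only [not_or] at hnc
  have hT : IsB z (g⁻¹ * b * g) :=
    ((h.cases _ hcm hsq hne1 hnc.1).resolve_left hnc.2.1).resolve_right hnc.2.2
  have := card_cz_conj g z (g⁻¹ * b * g)
  rwa [hg, show g * (g⁻¹ * b * g) * g⁻¹ = b by group, hT.2.2.2.2] at this

/-- `C(b)` modulo `⟨b⟩` is `S₄` or `S₅`, and `z` maps to an even involution. -/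
theorem exists_quot {b : G} (hb : IsB z b) :
    ∃ n : ℕ, (n = 4 ∨ n = 5) ∧ ∃ π : ↥(centralizer ({b} : Set G)) →* Equiv.Perm (Fin n),
      Function.Surjective π ∧
      (∀ x : ↥(centralizer ({b} : Set G)), π x = 1 ↔ (x : G) = 1 ∨ (x : G) = b) ∧
      (∀ x : ↥(centralizer ({b} : Set G)), (x : G) = z →
        Equiv.Perm.sign (π x) = 1 ∧ π x * π x = 1 ∧ π x ≠ 1) ∧
      ∀ x x' : ↥(centralizer ({b} : Set G)), (x : G) = z → IsConj z (x' : G) →
        ∃ d : ↥(centralizer ({b} : Set G)), d * x * d⁻¹ = x' := by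
  haveI : Fact (Nat.Prime 2) := ⟨Nat.prime_two⟩
  obtain ⟨a, y, ha, hab, hy, hyb, hya, h8, hall, hzb, habB, hazbB⟩ := h.b_involutions hb
  set H := centralizer ({b} : Set G) with hH
  have hza : z ≠ a := fun e => ha.2.2.2.1 e.symm
  have hz_not : ∀ {x : G}, IsConj z x → IsB z x → False := fun hc hB => h.not_conj_B hB hc
  have hyne : y * a ≠ a * y := fun e => h.ne (by
    have : y * a * y⁻¹ = a := by rw [e, mul_inv_cancel_right]
    rw [hya] at this; exact mul_eq_left.1 this)
  set zH : ↥H := ⟨z, mem_centralizer_singleton_iff.2 hb.1.symm⟩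
  set aH : ↥H := ⟨a, mem_centralizer_singleton_iff.2 hab⟩
  set yH : ↥H := ⟨y, mem_centralizer_singleton_iff.2 hyb⟩
  set bH : ↥H := ⟨b, mem_centralizer_singleton_iff.2 rfl⟩
  set Nb : Subgroup ↥H := (zpowers b).subgroupOf H
  have hmemN : ∀ x : ↥H, x ∈ Nb ↔ (x : G) = 1 ∨ (x : G) = b := fun x => by
    rw [mem_subgroupOf, mem_zpowers_invol hb.2.1]
  haveI : Nb.Normal := ⟨fun n hn g => by
    rw [hmemN] at hn ⊢
    show (g : G) * n * (g : G)⁻¹ = 1 ∨ (g : G) * n * (g : G)⁻¹ = b
    rcases hn with e | e <;> rw [e]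
    · exact Or.inl (by rw [mul_one, mul_inv_cancel])
    · exact Or.inr (mul_inv_eq_iff_eq_mul.2 (mem_centralizer_singleton_iff.1 g.2))⟩
  set q := QuotientGroup.mk' Nb with hq
  have hqeq : ∀ {x x' : ↥H}, q x = q x' → (x' : G) = x ∨ (x' : G) = x * b := by
    intro x x' e
    obtain ⟨n, hn, rfl⟩ := (QuotientGroup.mk'_eq_mk' Nb).1 e
    rcases (hmemN n).1 hn with r | r
    · left; rw [coe_mul, r, mul_one]
    · right; rw [coe_mul, r]
  have hqb : q bH = 1 := (QuotientGroup.eq_one_iff bH).2 ((hmemN bH).2 (Or.inr rfl))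
  have hsurj : Function.Surjective q := QuotientGroup.mk'_surjective Nb
  -- the Sylow 2-subgroup `C(z) ∩ C(b)`
  have hRH : cz z b ≤ H := inf_le_right
  set R : Subgroup ↥H := (cz z b).subgroupOf H with hRdef
  have hRcard : Nat.card R = 16 := by
    rw [Nat.card_congr (subgroupOfEquivOfLe hRH).toEquiv, hb.2.2.2.2]
  obtain ⟨D, hD⟩ := (IsPGroup.of_card (p := 2) (n := 4) (by rw [hRcard]; norm_num) : IsPGroup 2 R).exists_le_sylow
  have hDR : (D : Subgroup ↥H) = R := by
    refine map_injective H.subtype_injective ?_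
    rw [subgroupOf_map_subtype, inf_eq_left.2 hRH]
    exact h.b_maximal hb (D.2.map _) (map_subtype_le _) fun x hx => ⟨⟨x, hRH hx⟩, hD hx, rfl⟩
  have hNR : Nb ≤ R := fun x hx => by
    rw [hRdef, mem_subgroupOf]
    rcases (hmemN x).1 hx with r | r <;> rw [r]
    · exact one_mem _
    · exact mem_cz.2 ⟨hb.1, Commute.refl b⟩
  have hNcard : Nat.card Nb = 2 := by
    rw [Nat.card_congr (subgroupOfEquivOfLe (zpowers_le.2 (mem_centralizer_singleton_iff.2 rfl))).toEquiv,
      Nat.card_zpowers, orderOf_eq_prime (by rw [pow_two]; exact hb.2.1) hb.2.2.1]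
  have hmap : ∀ X : Subgroup ↥H, Nb ≤ X → Nat.card (X.map q) * 2 = Nat.card X := by
    intro X hX
    have h1 := relIndex_map_map q (⊥ : Subgroup ↥H) X
    rw [Subgroup.map_bot, relIndex_bot_left, bot_sup_eq, QuotientGroup.ker_mk', sup_eq_left.2 hX] at h1
    have h2 := card_mul_index (Nb.subgroupOf X)
    rw [Nat.card_congr (subgroupOfEquivOfLe hX).toEquiv, hNcard] at h2
    rw [h1, mul_comm]
    exact h2
  -- the centraliser of the image of `z`
  have hzN : zH ∉ Nb := fun e => by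
    rcases (hmemN zH).1 e with r | r
    · exact h.ne r
    · exact hb.2.2.2.1 r.symm
  have hCz : centralizer ({q zH} : Set (↥H ⧸ Nb)) = R.map q := by
    ext w
    obtain ⟨x, rfl⟩ := hsurj w
    rw [mem_centralizer_singleton_iff]
    constructor
    · intro e
      refine ⟨x, ?_, rfl⟩
      have e' : q zH = q (x * zH * x⁻¹) := by rw [map_mul, map_mul, map_inv, e, mul_inv_cancel_right]
      show (x : G) ∈ cz z b
      refine mem_cz.2 ⟨?_, mem_centralizer_singleton_iff.1 x.2⟩
      rcases hqeq e' with r | r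
      · exact mul_inv_eq_iff_eq_mul.1 r
      · exact (hz_not (isConj_iff.2 ⟨x, r⟩) hzb).elim
    · rintro ⟨x', hx', e⟩
      have hc : x' * zH = zH * x' := Subtype.ext (mem_cz.1 (mem_subgroupOf.1 hx')).1
      rw [← e, ← map_mul, ← map_mul, hc]
  have hC8 : Nat.card (centralizer ({q zH} : Set (↥H ⧸ Nb))) = 8 := by
    have := hmap R hNR
    rw [hRcard] at this
    rw [hCz]; omega
  have hya2 : (yH * aH) * (yH * aH) = zH := Subtype.ext (by
    show y * a * (y * a) = z
    calc y * a * (y * a) = (y * a * y⁻¹) * (y * y) * a := by group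
      _ = a * z * a := by rw [hya, hy.2.1, mul_one]
      _ = z := by rw [mul_assoc, ← ha.1.eq, ← mul_assoc, ha.2.1, one_mul])
  have hqz1 : q zH ≠ 1 := fun e => hzN ((QuotientGroup.eq_one_iff zH).1 e)
  have hqz2 : q zH * q zH = 1 := by
    rw [← map_mul, ← map_one q]; exact congrArg q (Subtype.ext h.sq)
  obtain ⟨eD⟩ : Nonempty (centralizer ({q zH} : Set (↥H ⧸ Nb)) ≃* DihedralGroup 4) := by
    have hyR : q yH ∈ centralizer ({q zH} : Set (↥H ⧸ Nb)) := hCz ▸ ⟨yH, mem_cz.2 ⟨hy.1, hyb⟩, rfl⟩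
    have haR : q aH ∈ centralizer ({q zH} : Set (↥H ⧸ Nb)) := hCz ▸ ⟨aH, mem_cz.2 ⟨ha.1, hab⟩, rfl⟩
    have hsq : (q yH * q aH) ^ 2 = q zH := by rw [pow_two, ← map_mul, ← map_mul, hya2]
    refine nonempty_equiv_dihedral_four hC8 (x := ⟨_, hyR⟩) (y := ⟨_, haR⟩) (Subtype.ext ?_) (Subtype.ext ?_) ?_ ?_
    · show q yH * q yH = 1
      rw [← map_mul, ← map_one q]; exact congrArg q (Subtype.ext hy.2.1)
    · show q aH * q aH = 1
      rw [← map_mul, ← map_one q]; exact congrArg q (Subtype.ext ha.2.1)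
    · rw [← orderOf_coe]
      show orderOf (q yH * q aH) = 2 ^ (1 + 1)
      refine orderOf_eq_prime_pow (by rw [pow_one, hsq]; exact hqz1) ?_
      rw [show 2 ^ (1 + 1) = 2 * 2 by norm_num, pow_mul, hsq, pow_two, hqz2]
    · intro hm
      obtain ⟨i, hi⟩ := mem_zpowers_iff.1 hm
      have hi' : (q yH * q aH) ^ i = q yH := by simpa using congrArg Subtype.val hi
      have hc : Commute (q yH) (q yH * q aH) := by
        have := (Commute.refl (q yH * q aH)).zpow_left i
        rwa [hi'] at this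
      have e : q (yH * aH) = q (aH * yH) := by
        rw [map_mul, map_mul]
        exact mul_left_cancel (hc.eq.trans (mul_assoc _ _ _))
      rcases hqeq e with r | r
      · exact hyne r.symm
      · have e' : a * z * b = a := by
          rw [← hya, mul_assoc _ y⁻¹ b, (Commute.inv_left hyb).eq, ← mul_assoc]
          have r' : a * y = y * a * b := r
          rw [← r', mul_inv_cancel_right]
        rw [mul_assoc] at e'
        exact hb.2.2.2.1 (mul_left_cancel ((mul_eq_left.1 e').trans h.sq.symm))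
  let DC : BSW.DihedralCent (↥H ⧸ Nb) :=
    { t := q zH, ht := orderOf_eq_prime (by rw [pow_two]; exact hqz2) hqz1, e := eD }
  -- the image of `z` is not isolated
  have hza' : ∃ d : ↥H, d * zH * d⁻¹ = aH := by
    have ha16 := h.card_cz_of_conj hG hb hab (h.conj_A hG ha)
    have haH : cz a b ≤ H := inf_le_right
    obtain ⟨D', hD'⟩ := (IsPGroup.of_card (p := 2) (n := 4) (by
      rw [Nat.card_congr (subgroupOfEquivOfLe haH).toEquiv, ha16]; norm_num) :
      IsPGroup 2 ↥((cz a b).subgroupOf H)).exists_le_sylow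
    have hD'R : (D' : Subgroup ↥H) = (cz a b).subgroupOf H := by
      refine (eq_of_le_of_card_ge hD' (le_of_eq ?_)).symm
      rw [D'.card_eq_multiplicity, ← D.card_eq_multiplicity, hDR, hRcard,
        Nat.card_congr (subgroupOfEquivOfLe haH).toEquiv, ha16]
    obtain ⟨d, hd⟩ := MulAction.exists_smul_eq ↥H D D'
    have himg : ∀ x ∈ R, ((d * x * d⁻¹ : ↥H) : G) ∈ cz a b := fun x hx => by
      have : d * x * d⁻¹ ∈ (D' : Subgroup ↥H) := by
        rw [← hd, Sylow.coe_subgroup_smul, mem_pointwise_smul_iff_inv_smul_mem, hDR]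
        simpa [MulAut.smul_def, mul_assoc] using hx
      rwa [hD'R, mem_subgroupOf] at this
    set w := (d : G) * z * (d : G)⁻¹ with hw
    have hwR : ∀ x ∈ cz a b, Commute w x := by
      intro x hx
      obtain ⟨x', hx', e⟩ : ∃ x' ∈ R, d * x' * d⁻¹ = (⟨x, haH hx⟩ : ↥H) := by
        refine ⟨d⁻¹ * ⟨x, haH hx⟩ * d, ?_, by group⟩
        have hm : (⟨x, haH hx⟩ : ↥H) ∈ (D' : Subgroup ↥H) := by rw [hD'R]; exact hx
        rw [← hd, Sylow.coe_subgroup_smul, mem_pointwise_smul_iff_inv_smul_mem, hDR] at hm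
        simpa [MulAut.smul_def, mul_assoc] using hm
      have e' : (d : G) * x' * (d : G)⁻¹ = x := congrArg Subtype.val e
      show w * x = x * w
      rw [hw, ← e', conj_mul, conj_mul, (mem_cz.1 (mem_subgroupOf.1 hx')).1.eq]
    have hzR : z ∈ cz a b := mem_cz.2 ⟨ha.1.symm, hb.1.symm⟩
    have hwb : Commute w b := mem_centralizer_singleton_iff.1
      (mul_mem (mul_mem d.2 zH.2) (inv_mem d.2))
    have hw2 : w * w = 1 := by rw [hw, conj_mul, h.sq, mul_one, mul_inv_cancel]
    rcases hall w (mem_cz.2 ⟨hwR z hzR, hwb⟩) hw2 with r | r | r | r | r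
    · exact absurd (conj_eq_one_iff.1 r) h.ne
    · -- then `C(a) ∩ C(b) = C(z) ∩ C(b)` and `a` would be central there
      exfalso
      have hle : cz a b ≤ cz z b := fun x hx => mem_cz.2 ⟨(r ▸ hwR x hx).symm, (mem_cz.1 hx).2⟩
      have heq := eq_of_le_of_card_ge hle (by rw [ha16, hb.2.2.2.2])
      have : y ∈ cz a b := heq ▸ mem_cz.2 ⟨hy.1, hyb⟩
      exact hyne (mem_cz.1 this).1
    · exact ⟨d, Subtype.ext r⟩
    · refine ⟨yH * d, Subtype.ext ?_⟩
      show y * (d : G) * z * (y * (d : G))⁻¹ = a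
      calc y * (d : G) * z * (y * (d : G))⁻¹ = y * w * y⁻¹ := by rw [hw]; group
        _ = (y * a * y⁻¹) * (y * z * y⁻¹) := by rw [r]; group
        _ = a := by rw [hya, hy.1.eq, mul_inv_cancel_right, mul_assoc, h.sq, mul_one]
    · exact (hz_not (isConj_iff.2 ⟨d, rfl⟩) r).elim
  have haz_ne : q aH ≠ q zH := fun e => by
    rcases hqeq e with r | r
    · exact hza r
    · have hB := habB
      rw [← r] at hB
      exact hz_not (IsConj.refl z) hB
  have hqa1 : q aH ≠ 1 := fun e => by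
    rcases (hmemN aH).1 ((QuotientGroup.eq_one_iff aH).1 e) with r | r
    · exact ha.2.2.1 r
    · have := hb.inj ((show a = b from r) ▸ ha); omega
  have hcaz : q aH * q zH = q zH * q aH := by
    rw [← map_mul, ← map_mul]; exact congrArg q (Subtype.ext ha.1.eq)
  have hni : ¬ Cfsg.IsIsolatedInvolution DC.t := by
    rintro ⟨-, hiso⟩
    obtain ⟨d, hd⟩ := hza'
    have e : q d * q zH * (q d)⁻¹ = q aH := by rw [← map_inv, ← map_mul, ← map_mul, hd]
    exact haz_ne (by
      have := hiso (q d) (show Commute (q zH) (q d * q zH * (q d)⁻¹) by rw [e]; exact hcaz.symm)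
      rwa [e] at this)
  -- a subgroup of index two
  set U : Subgroup ↥H := (cz z b ⊓ centralizer ({a} : Set G)).subgroupOf H
  have hUR : U ≤ R := fun x hx => (mem_subgroupOf.1 hx).1
  have hNU : Nb ≤ U := fun x hx => by
    refine ⟨hNR hx, ?_⟩
    rcases (hmemN x).1 hx with r | r <;>
      (show (x : G) ∈ centralizer ({a} : Set G)) <;> rw [r, mem_centralizer_singleton_iff]
    · simp
    · exact hab.symm
  have hUcard : Nat.card U = 8 := by
    rw [Nat.card_congr (subgroupOfEquivOfLe (inf_le_left.trans hRH)).toEquiv, h8]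
  have hU4 : Nat.card (U.map q) = 4 := by have := hmap U hNU; omega
  let S := D.mapSurjective hsurj
  have hSR : (S : Subgroup (↥H ⧸ Nb)) = R.map q := by
    rw [Sylow.coe_mapSurjective, hDR]
  have hUi : (U.map q).relIndex (S : Subgroup (↥H ⧸ Nb)) = 2 := by
    rw [hSR, relIndex_map_map, QuotientGroup.ker_mk', sup_eq_left.2 hNU, sup_eq_left.2 hNR]
    have := card_mul_index (U.subgroupOf R)
    rw [Nat.card_congr (subgroupOfEquivOfLe hUR).toEquiv, hUcard, hRcard] at this
    show (U.subgroupOf R).index = 2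
    omega
  have hUelts : ∀ w ∈ U.map q, w = 1 ∨ w = q zH ∨ w = q aH ∨ w = q aH * q zH := by
    classical
    haveI := Fintype.ofFinite ↥(U.map q)
    intro w hw
    have hm1 : q zH ∈ U.map q := ⟨zH, ⟨mem_cz.2 ⟨Commute.refl z, hb.1.symm⟩,
      mem_centralizer_singleton_iff.2 ha.1.eq.symm⟩, rfl⟩
    have hm2 : q aH ∈ U.map q := ⟨aH, ⟨mem_cz.2 ⟨ha.1, hab⟩, mem_centralizer_singleton_iff.2 rfl⟩, rfl⟩
    let F : Finset ↥(U.map q) := {1, ⟨_, hm1⟩, ⟨_, hm2⟩, ⟨_, mul_mem hm2 hm1⟩}
    have e1 : q aH * q zH ≠ 1 := fun e => haz_ne ((mul_eq_one_iff_eq_inv.1 e).trans (inv_eq_of_mul_eq_one_right hqz2))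
    have e2 : q aH * q zH ≠ q zH := fun e => hqa1 (mul_eq_right.1 e)
    have e3 : q aH * q zH ≠ q aH := fun e => hqz1 (mul_eq_left.1 e)
    have hF : F = Finset.univ := Finset.eq_univ_of_card F (by
      rw [← Nat.card_eq_fintype_card, hU4]
      simp [F, Subtype.ext_iff, hqz1.symm, hqa1.symm, haz_ne.symm, e1.symm, e2.symm, e3.symm])
    have : (⟨w, hw⟩ : ↥(U.map q)) ∈ F := hF ▸ Finset.mem_univ _
    simpa [F, Subtype.ext_iff] using this
  have hyB : IsB z (y * b) := by
    have hne : ∀ v, Commute v a → y * b ≠ v := by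
      intro v hv e
      refine hyne ?_
      have hyv : y = v * b := by rw [← e, mul_assoc, hb.2.1, mul_one]
      rw [hyv]; exact (hv.mul_left hab.symm).eq
    have hsq : y * b * (y * b) = 1 := by
      rw [hyb.symm.mul_mul_mul_comm, hy.2.1, hb.2.1, mul_one]
    rcases hall _ (mem_cz.2 ⟨hy.1.mul_left hb.1, hyb.mul_left (Commute.refl b)⟩) hsq with r | r | r | r | r
    · exact absurd r (hne 1 (Commute.one_left a))
    · exact absurd r (hne z ha.1.symm)
    · exact absurd r (hne a (Commute.refl a))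
    · exact absurd r (hne (a * z) ((Commute.refl a).mul_left ha.1.symm))
    · exact r
  have hnf : ∀ g : ↥H ⧸ Nb, g * q yH * g⁻¹ ∉ U.map q := by
    intro g hg
    obtain ⟨x, rfl⟩ := hsurj g
    rw [← map_inv, ← map_mul, ← map_mul] at hg
    have hconj : ∀ v : ↥H, IsConj z (v : G) → q (x * yH * x⁻¹) ≠ q v := by
      intro v hv e
      rcases hqeq e with r | r
      · exact hz_not (hv.trans (isConj_iff.2 ⟨x, r.symm⟩ : IsConj y (v : G)).symm) hy
      · refine hz_not (hv.trans (isConj_iff.2 ⟨x, ?_⟩ : IsConj (y * b) (v : G)).symm) hyB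
        rw [r]
        show (x : G) * (y * b) * (x : G)⁻¹ = x * y * (x : G)⁻¹ * b
        rw [mul_assoc _ (x : G)⁻¹ b, (Commute.inv_left (mem_centralizer_singleton_iff.1 x.2 : Commute (x : G) b)).eq]
        group
    rcases hUelts _ hg with e | e | e | e
    · rw [map_mul, map_mul, map_inv, conj_eq_one_iff, ← map_one q] at e
      rcases hqeq e with r | r
      · exact hy.2.2.1 r.symm
      · refine hyne ?_
        have : y = b := by
          have r' : (1 : G) = y * b := r
          exact (eq_inv_of_mul_eq_one_left r'.symm).trans (inv_eq_of_mul_eq_one_right hb.2.1)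
        rw [this]; exact hab.symm.eq
    · exact hconj zH (IsConj.refl z) e
    · exact hconj aH (h.conj_A hG ha) e
    · rw [← map_mul] at e; exact hconj (aH * zH) (h.conj_A hG (h.a_z a ha)) e
  obtain ⟨M, hM, hidx, -⟩ := Transfer.exists_index_two_of_involution S (U.map q)
    (hSR ▸ map_mono hUR) hUi (q yH) (by
      rw [pow_two, ← map_mul, ← map_one q]; exact congrArg q (Subtype.ext hy.2.1))
    (by
      have : q yH ∈ (S : Subgroup (↥H ⧸ Nb)) := hSR ▸ ⟨yH, mem_cz.2 ⟨hy.1, hyb⟩, rfl⟩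
      exact this) (fun e => hnf 1 (by simpa using e)) hnf
  have hfin : ∀ (n : ℕ), (↥H ⧸ Nb ≃* Equiv.Perm (Fin n)) → ∃ π : ↥H →* Equiv.Perm (Fin n),
      Function.Surjective π ∧ (∀ x : ↥H, π x = 1 ↔ (x : G) = 1 ∨ (x : G) = b) ∧
      (∀ x : ↥H, (x : G) = z → Equiv.Perm.sign (π x) = 1 ∧ π x * π x = 1 ∧ π x ≠ 1) ∧
      ∀ x x' : ↥H, (x : G) = z → IsConj z (x' : G) → ∃ d : ↥H, d * x * d⁻¹ = x' := by
    intro n e
    refine ⟨e.toMonoidHom.comp q, e.surjective.comp hsurj, fun x => ?_, fun x hx => ?_,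
      fun x x' hx hx' => ?_⟩
    · rw [← hmemN, ← QuotientGroup.eq_one_iff]
      exact e.map_eq_one_iff
    · obtain rfl : x = zH := Subtype.ext hx
      refine ⟨?_, ?_, ?_⟩
      · rw [← hya2, map_mul, map_mul]
        exact Int.units_mul_self _
      · show e (q zH) * e (q zH) = 1
        rw [← map_mul, hqz2, map_one]
      · exact fun e' => hqz1 (e.map_eq_one_iff.1 e')
    · obtain rfl : x = zH := Subtype.ext hx
      obtain ⟨c, hc⟩ := isConj_iff.1 hx'
      have hx2 : (x' : G) * x' = 1 := by rw [← hc, conj_mul, h.sq, mul_one, mul_inv_cancel]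
      have hx1 : (x' : G) ≠ 1 := fun e => h.ne (conj_eq_one_iff.1 (hc.trans e))
      obtain ⟨D', hD'⟩ := (IsPGroup.of_card (p := 2) (n := 1) (by
        rw [Nat.card_zpowers, ← orderOf_coe,
          orderOf_eq_prime (by rw [pow_two]; exact hx2) hx1, pow_one]) :
        IsPGroup 2 ↥(zpowers x')).exists_le_sylow
      obtain ⟨d, hd⟩ := MulAction.exists_smul_eq ↥H D' D
      have hm : d * x' * d⁻¹ ∈ R := by
        rw [← hDR, ← hd, Sylow.coe_subgroup_smul, mem_pointwise_smul_iff_inv_smul_mem]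
        simpa [MulAut.smul_def, mul_assoc] using hD' (mem_zpowers x')
      rw [hRdef, mem_subgroupOf] at hm
      have hconj : IsConj z ((d * x' * d⁻¹ : ↥H) : G) := hx'.trans (isConj_iff.2 ⟨d, rfl⟩)
      have hsq : ((d * x' * d⁻¹ : ↥H) : G) * (d * x' * d⁻¹ : ↥H) = 1 := by
        show (d : G) * x' * (d : G)⁻¹ * ((d : G) * x' * (d : G)⁻¹) = 1
        rw [conj_mul, hx2, mul_one, mul_inv_cancel]
      obtain ⟨d₀, hd₀⟩ := hza'
      suffices hh : ∃ e, e * zH * e⁻¹ = d * x' * d⁻¹ by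
        obtain ⟨e, he⟩ := hh
        exact ⟨d⁻¹ * e, by
          calc d⁻¹ * e * zH * (d⁻¹ * e)⁻¹ = d⁻¹ * (e * zH * e⁻¹) * d := by group
            _ = x' := by rw [he]; group⟩
      rcases hall _ hm hsq with r | r | r | r | r
      · exact absurd (conj_eq_one_iff.1 (Subtype.ext r : d * x' * d⁻¹ = 1)) fun e => hx1 (congrArg Subtype.val e)
      · exact ⟨1, Subtype.ext (by rw [one_mul, inv_one, mul_one]; exact r.symm)⟩
      · exact ⟨d₀, hd₀.trans (Subtype.ext r.symm)⟩
      · refine ⟨yH * d₀, ?_⟩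
        rw [mul_inv_rev, show yH * d₀ * zH * (d₀⁻¹ * yH⁻¹) = yH * (d₀ * zH * d₀⁻¹) * yH⁻¹ by group, hd₀]
        exact Subtype.ext (hya.trans r.symm)
      · exact (hz_not hconj r).elim
  rcases DihedralCentTools.index_two_case DC hni M hidx with ⟨⟨e⟩⟩ | ⟨⟨e⟩⟩
  · exact ⟨4, Or.inl rfl, hfin 4 e⟩
  · exact ⟨5, Or.inr rfl, hfin 5 e⟩

end Cent

end Cfsg.Agent.M12Cent
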